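import Mathlib
import Cfsg.Agent.Lib.LocalEven.BlockCentral.Main

/-!
Facts on a single block.
-/

set_option autoImplicit false

namespace CfsgLib.LocalEven.BlockBaumann

open Subgroup Cfsg
open CfsgLib.LocalEven.SubBlock
open scoped commutatorElement

variable {G : Type*} [Group G] [Finite G] {p : ℕ} [Fact p.Prime] {T : Sylow p G} {E F : Subgroup G}

/-- Only `O_p(E)` acts trivially on `W/Z`. -/
theorem stab_inf_le_core (hE : IsBaumannBlock p (T : Subgroup G) E) :
    E ⊓ stab (bW p E) (bZ p E) ≤ pCoreOf p E := by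
  refine CfsgLib.LocalEven.le_pCoreOf inf_le_left (isPGroup_of_coprime_eq_one fun y hy hco => ?_) fun e he => ?_
  · refine eq_one_of_pElem_coprime (CfsgLib.LocalEven.isPGroup_pCoreOf p E) ?_ hco
    refine (BlockModule.isBlockModule_of_block hE).2 y hy.1 fun w hw => ?_
    refine (commutatorElement_eq_one_iff_mul_comm.1 (mem_bot.1 ?_)).symm
    refine comm_mem_of_coprime ((isPGroup_bW E).to_le inf_le_left) hco (hy.2.2.2 w hw)
      (by rw [normalizer_eq_top]; exact mem_top y) (by rw [normalizer_eq_top]; exact le_top) fun z hz => ?_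
    rw [mem_bot, commutatorElement_eq_one_iff_mul_comm]
    exact (mem_centralizer_iff.1 hz.2 y hy.1).symm
  · refine Baumann.normalizer_inf_le _ _ ⟨le_normalizer he, ?_⟩
    exact relCent_normalized (le_normalizer (le_normalizer_bW E he)) (le_normalizer_bW E he)
      (le_normalizer_bZ E he)

/-- An element normalising the block and trivial on `W_E` modulo `C(E)` centralises `W_E`. -/
theorem centralizes_of_modZ (hE : IsBaumannBlock p (T : Subgroup G) E) {b : G}
    (hb : b ∈ normalizer (E : Set G)) (h : ∀ w ∈ bWE p E, ⁅b, w⁆ ∈ centralizer (E : Set G)) :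
    b ∈ centralizer (bWE p E : Set G) := by
  have hWn := normalizer_le_bWE (p := p) E hb
  have hZn := normalizer_le_bZ (p := p) E hb
  have hconjW : ∀ w ∈ bW p E, b * w * b⁻¹ ∈ bW p E := fun w hw =>
    (mem_normalizer_iff.1 (normalizer_le_bW E hb) w).1 hw
  have hbZ : ∀ a ∈ bW p E, ⁅b, a⁆ ∈ bZ p E := by
    intro a ha
    obtain ⟨w, hw, z, hz, rfl⟩ := exists_mul_of_sup (bWE_le E) ((bWE_sup hE).ge ha)
    have h1 : ⁅b, w⁆ ∈ bZ p E := by
      refine Subgroup.mem_inf.2 ⟨?_, h w hw⟩
      rw [commutatorElement_def]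
      exact mul_mem (hconjW w (bWE_le E hw)) (inv_mem (bWE_le E hw))
    have h2 : ⁅b, z⁆ ∈ bZ p E := by
      rw [commutatorElement_def]
      exact mul_mem ((mem_normalizer_iff.1 hZn z).1 hz) (inv_mem hz)
    rw [show ⁅b, w * z⁆ = ⁅b, w⁆ * (w * ⁅b, z⁆ * w⁻¹) by simp only [commutatorElement_def]; group,
      bW_comm (bWE_le E hw) h2.1, mul_inv_cancel_right]
    exact mul_mem h1 h2
  have hbS : b ∈ stab (bW p E) (bZ p E) :=
    ⟨normalizer_le_bW E hb, hZn, fun a ha => by rw [← commutatorElement_inv]; exact inv_mem (hbZ a ha)⟩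
  suffices bWE p E ≤ centralizer ({b} : Set G) from mem_centralizer_iff.2 fun w hw =>
    (mem_centralizer_iff.1 (this hw) b rfl).symm
  rw [commutator_le]
  intro w hw e he
  refine mem_centralizer_iff.2 fun y hy => ?_
  rw [Set.mem_singleton_iff.1 hy]
  refine mul_inv_eq_iff_eq_mul.1 ?_
  have hq : ⁅b, e⁆ ∈ pCoreOf p E := by
    refine stab_inf_le_core hE (Subgroup.mem_inf.2 ⟨?_, (commutator_mem_stab hbS (le_normalizer_bW E he) (le_normalizer_bZ E he)).1⟩)
    rw [commutatorElement_def]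
    exact mul_mem ((mem_normalizer_iff.1 hb e).1 he) (inv_mem he)
  set z := ⁅b, w⁆ with hz
  have hzZ : z ∈ bZ p E := hbZ w hw
  set q := ⁅b, e⁆ with hqd
  have hqE : q ∈ E := CfsgLib.LocalEven.pCoreOf_le p E hq
  have hwe : ⁅w, e⁆ ∈ bW p E := by
    rw [commutatorElement_def, mul_assoc w e w⁻¹, mul_assoc]
    exact mul_mem hw (Baumann.conj_mem_of_le_normalizer (le_normalizer_bW E) he (inv_mem hw))
  calc b * ⁅w, e⁆ * b⁻¹ = ⁅z * w, q * e⁆ := by
        rw [hz, hqd]; simp only [commutatorElement_def]; group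
    _ = ⁅w * z, q * e⁆ := by rw [bW_comm hzZ.1 hw]
    _ = ⁅w, q * e⁆ := commutator_mul_bZ hzZ (mul_mem hqE he)
    _ = ⁅w, q⁆ * (q * ⁅w, e⁆ * q⁻¹) := by simp only [commutatorElement_def]; group
    _ = ⁅w, e⁆ := by
      rw [commutatorElement_eq_one_iff_mul_comm.2 (core_comm hq hw).symm, one_mul, core_comm hq hwe,
        mul_inv_cancel_right]

/-- `W_E` has at least four classes modulo `C(E)`. -/
theorem exists_two (hE : IsBaumannBlock p (T : Subgroup G) E) :
    ∃ w₁ ∈ bWE p E, ∃ w₂ ∈ bWE p E, w₁ ∉ centralizer (E : Set G) ∧ w₂ ∉ centralizer (E : Set G) ∧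
      w₁⁻¹ * w₂ ∉ centralizer (E : Set G) := by
  obtain ⟨w₁, hw₁, h1⟩ : ∃ w ∈ bWE p E, w ∉ centralizer (E : Set G) := by
    by_contra hc
    push Not at hc
    exact bWE_not_le hE fun w hw => ⟨bWE_le E hw, hc w hw⟩
  refine ⟨w₁, hw₁, ?_⟩
  by_contra hc
  push Not at hc
  have hall : ∀ w ∈ bWE p E, w ∈ centralizer (E : Set G) ∨ w₁⁻¹ * w ∈ centralizer (E : Set G) := fun w hw => by
    by_cases hw' : w ∈ centralizer (E : Set G)
    · exact Or.inl hw'
    · exact Or.inr (hc w hw h1 hw')
  refine bWE_not_le hE fun x hx => ⟨bWE_le E hx, ?_⟩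
  suffices hle : ⁅bWE p E, E⁆ ≤ centralizer (E : Set G) by
    rw [bWE_commutator hE] at hle; exact hle hx
  rw [commutator_le]
  intro w hw e he
  have hen : e ∈ normalizer (centralizer (E : Set G) : Set G) :=
    CfsgLib.LocalEven.Oz.mem_normalizer_centralizer (le_normalizer he)
  have hfix : e * w₁ * e⁻¹ * w₁⁻¹ ∈ centralizer (E : Set G) := by
    have hm : e * w₁ * e⁻¹ ∈ bWE p E := Baumann.conj_mem_of_le_normalizer (le_normalizer_bWE E) he hw₁
    rcases hall _ hm with h | h
    · exact absurd ((mem_normalizer_iff.1 hen w₁).2 h) h1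
    · rw [bW_comm (bWE_le E hm) (inv_mem (bWE_le E hw₁))]
      exact h
  have hz : ∀ {z : G}, z ∈ centralizer (E : Set G) → ∀ u, ⁅u * z, e⁆ = ⁅u, e⁆ := by
    intro z hz u
    have hc : z * e = e * z := (mem_centralizer_iff.1 hz e he).symm
    simp only [commutatorElement_def]
    calc u * z * e * (u * z)⁻¹ * e⁻¹ = u * (z * e) * z⁻¹ * u⁻¹ * e⁻¹ := by group
      _ = u * (e * z) * z⁻¹ * u⁻¹ * e⁻¹ := by rw [hc]
      _ = u * e * u⁻¹ * e⁻¹ := by group
  rcases hall w hw with h | h
  · rw [commutatorElement_eq_one_iff_mul_comm.2 (mem_centralizer_iff.1 h e he).symm]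
    exact one_mem _
  · rw [show w = w₁ * (w₁⁻¹ * w) by group, hz h, ← commutatorElement_inv]
    exact inv_mem hfix

/-- `[Ω₁(Z(O_p(G))), F] ≤ W_F` for every block. -/
theorem commutator_bA_le (hF : IsBaumannBlock p (T : Subgroup G) F) : ⁅bA p G, F⁆ ≤ bWE p F := by
  haveI := bA_normal (p := p) (G := G)
  have h0 : ⁅F, bA p G⁆ ≤ pCore p G := (commutator_le_right F (bA p G)).trans bA_le
  have h1 : ⁅bA p G, F⁆ ≤ bW p F := by
    have hQ : ⁅bA p G, F⁆ ≤ pCoreOf p F ⊓ bA p G :=
      le_inf (by rw [commutator_comm]; exact commutator_le_core hF h0) (commutator_le_left _ _)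
    rcases core_eq_or_exc hF with h | h
    · exact (hQ.trans inf_le_left).trans h.le
    set Y := (pCoreOf p F ⊓ bA p G) ⊔ bW p F with hY
    have hYn : F ≤ normalizer (Y : Set G) := fun f hf =>
      CfsgLib.LocalEven.mem_normalizer_of_conj_le (le_of_eq_of_le (Subgroup.map_sup _ _ _) (sup_le_sup
        (mem_normalizer_iff_map_conj_eq.1 (Baumann.normalizer_inf_le _ _
          ⟨CfsgLib.LocalEven.le_normalizer_pCoreOf p F hf, mem_normalizer_normal f⟩)).le
        (mem_normalizer_iff_map_conj_eq.1 (le_normalizer_bW F hf)).le))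
    rcases h.irr Y le_sup_right (sup_le inf_le_left (bW_le_core F)) hYn with he | he
    · exact hQ.trans (le_sup_left.trans he.le)
    exfalso
    have hab : ∀ a ∈ pCoreOf p F ⊓ bA p G, ∀ b ∈ pCoreOf p F, a * b = b * a := by
      have hS : pCoreOf p F ≤ centralizer ((pCoreOf p F ⊓ bA p G : Subgroup G) : Set G) := by
        refine he.ge.trans (sup_le (fun x hx => mem_centralizer_iff.2 fun a ha =>
          bA_comm a (Subgroup.mem_inf.1 ha).2 x hx.2) fun x hx => mem_centralizer_iff.2 fun a ha =>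
            core_comm (Subgroup.mem_inf.1 ha).1 hx)
      exact fun a ha b hb => mem_centralizer_iff.1 (hS hb) a ha
    have hcomm : ⁅pCoreOf p F, pCoreOf p F⁆ = ⊥ := by
      rw [commutator_eq_bot_iff_le_centralizer]
      intro a ha
      have hS : pCoreOf p F ≤ centralizer ({a} : Set G) := by
        refine he.ge.trans (sup_le (fun x hx => mem_centralizer_iff.2 fun y hy => ?_)
          fun x hx => mem_centralizer_iff.2 fun y hy => ?_)
        · rw [Set.mem_singleton_iff.1 hy]; exact (hab x hx a ha).symm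
        · rw [Set.mem_singleton_iff.1 hy]; exact core_comm ha hx
      exact mem_centralizer_iff.2 fun b hb => (mem_centralizer_iff.1 (hS hb) a rfl).symm
    have hZ := h.cardZ
    rw [show bZ p F = ⊥ from h.derived.symm.trans hcomm, card_bot, one_pow, eq_comm, bot_subgroupOf,
      index_bot] at hZ
    have hW : bW p F = ⊥ := card_eq_one.1 hZ
    exact bWE_not_le hF fun x hx => by
      have hx' := bWE_le F hx
      rw [hW, mem_bot] at hx'
      rw [hx']; exact one_mem _
  exact commutator_le_of_coprime (isPGroup_bW F) hF.1 h1 le_rfl (le_normalizer_bWE F)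
    ((bW_le F).trans (le_normalizer_bWE F))

end CfsgLib.LocalEven.BlockBaumann
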