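import Mathlib
import Cfsg.Agent.Lib.LocalEven.BlockBaumann.Basics
import Cfsg.Agent.Lib.Known.AltAut

/-!
Alternating blocks admit only inner automorphisms from other blocks.
-/

set_option autoImplicit false

namespace CfsgLib.LocalEven.BlockBaumann

open Subgroup Cfsg Equiv
open CfsgLib.LocalEven.SubBlock CfsgLib.LocalEven.BlockCentral
open scoped commutatorElement

/-- The vector of weight two. -/
def pairVec {n : ℕ} (i j : Fin n) : Fin n → ZMod 2 := Pi.single i 1 + Pi.single j 1

theorem pairVec_apply {n : ℕ} (i j k : Fin n) :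
    pairVec i j k = (if k = i then 1 else 0) + (if k = j then 1 else 0) := by
  simp [pairVec, Pi.single_apply]

theorem sum_pairVec {n : ℕ} (i j : Fin n) : ∑ k, pairVec i j k = 0 := by
  simp only [pairVec_apply, Finset.sum_add_distrib, Finset.sum_ite_eq', Finset.mem_univ, if_true]
  decide

/-- An even vector fixed by the even stabilizer of a pair. -/
theorem eq_zero_or_pairVec {n : ℕ} (hn : Odd n) {i j : Fin n} (hij : i ≠ j) {v : Fin n → ZMod 2}
    (hv : ∑ k, v k = 0)
    (hfix : ∀ k l, k ≠ i → k ≠ j → l ≠ i → l ≠ j → k ≠ l → ∀ r, v ((swap i j * swap k l)⁻¹ r) = v r)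
    (h5 : 5 ≤ n) : v = 0 ∨ v = pairVec i j := by
  classical
  set s : Finset (Fin n) := Finset.univ \ {i, j} with hs
  have hcard : s.card = n - 2 := by
    rw [hs, Finset.card_sdiff, Finset.inter_univ, Finset.card_univ, Fintype.card_fin, Finset.card_pair hij]
  obtain ⟨k₀, hk₀, l₀, hl₀, hkl⟩ := Finset.one_lt_card.1 (show 1 < s.card by omega)
  simp only [hs, Finset.mem_sdiff, Finset.mem_univ, true_and, Finset.mem_insert, Finset.mem_singleton, not_or] at hk₀ hl₀
  have hc : ∀ k, k ≠ i → k ≠ j → ∀ l, l ≠ i → l ≠ j → v k = v l := by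
    intro k h1 h2 l h3 h4
    by_cases h : k = l
    · rw [h]
    have := hfix k l h1 h2 h3 h4 h k
    rw [_root_.mul_inv_rev, Perm.mul_apply, swap_inv, swap_inv, swap_apply_of_ne_of_ne h1 h2, swap_apply_left] at this
    exact this.symm
  have hij' : v i = v j := by
    have := hfix k₀ l₀ hk₀.1 hk₀.2 hl₀.1 hl₀.2 hkl i
    rw [_root_.mul_inv_rev, Perm.mul_apply, swap_inv, swap_inv, swap_apply_left,
      swap_apply_of_ne_of_ne (Ne.symm hk₀.2) (Ne.symm hl₀.2)] at this
    exact this.symm
  have hrest : ∑ k ∈ s, v k = ((n - 2 : ℕ) : ZMod 2) * v k₀ := by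
    rw [Finset.sum_congr rfl (g := fun _ => v k₀) fun k hk => ?_, Finset.sum_const, hcard, nsmul_eq_mul]
    simp only [hs, Finset.mem_sdiff, Finset.mem_univ, true_and, Finset.mem_insert, Finset.mem_singleton, not_or] at hk
    exact hc k hk.1 hk.2 _ hk₀.1 hk₀.2
  have hodd : ((n - 2 : ℕ) : ZMod 2) = 1 := by
    obtain ⟨r, hr⟩ := hn
    rw [show n - 2 = 2 * (r - 1) + 1 by omega, Nat.cast_add, Nat.cast_mul]
    rw [show ((2 : ℕ) : ZMod 2) = 0 from rfl, zero_mul, zero_add, Nat.cast_one]
  have h0 : v k₀ = 0 := by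
    rw [← Finset.sum_sdiff (Finset.subset_univ {i, j}), ← hs, hrest, hodd, one_mul, Finset.sum_pair hij, hij',
      CharTwo.add_self_eq_zero, add_zero] at hv
    exact hv
  have hall : ∀ k, k ≠ i → k ≠ j → v k = 0 := fun k h1 h2 => (hc k h1 h2 _ hk₀.1 hk₀.2).trans h0
  rcases (show v i = 0 ∨ v i = 1 by generalize v i = x; revert x; decide) with h | h
  · refine Or.inl (funext fun k => ?_)
    by_cases h1 : k = i
    · rw [h1, h]; rfl
    by_cases h2 : k = j
    · rw [h2, ← hij', h]; rfl
    exact hall k h1 h2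
  · refine Or.inr (funext fun k => ?_)
    rw [pairVec_apply]
    by_cases h1 : k = i
    · rw [h1, h, if_pos rfl, if_neg hij, add_zero]
    by_cases h2 : k = j
    · rw [h2, ← hij', h, if_neg hij.symm, if_pos rfl, zero_add]
    rw [hall k h1 h2, if_neg h1, if_neg h2, add_zero]

variable {G : Type*} [Group G] [Finite G] {p : ℕ} [Fact p.Prime] {S : Sylow p G} {E F : Subgroup G}

theorem inner_of_alt (hE : IsBaumannBlock p (S : Subgroup G) E) (hp2 : p = 2) {m : ℕ} (hm : 2 ≤ m)
    (hsec : ActsAsOddPermModuleOnSection (2 * m + 1) (alternatingGroup (Fin (2 * m + 1))) E (bW p E) (bZ p E))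
    (hF : IsBaumannBlock p (S : Subgroup G) F) (hFE : F ≤ normalizer (E : Set G)) :
    F ≤ E ⊔ (normalizer (E : Set G) ⊓ cW p E) := by
  classical
  set n := 2 * m + 1 with hn
  have h5 : 5 ≤ n := by omega
  haveI : Nontrivial (Fin n) := Fin.nontrivial_iff_two_le.2 (by omega)
  obtain ⟨-, -, ρ, ψ, hρ, hψ1, hψ2, hker, heq⟩ := hsec
  have hne : ∀ {a : ↥(bW p E)} {b : G}, b ∈ normalizer (E : Set G) → b * (a : G) * b⁻¹ ∈ bW p E := fun hb =>
    (mem_normalizer_iff.1 (normalizer_le_bW E hb) _).1 (Subtype.prop _)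
  have hev : ∀ v : Fin n → ZMod 2, ∑ i, v i = 0 → ∀ σ : Perm (Fin n), (∀ u : ↥(bW p E), ∀ i,
      Multiplicative.toAdd (ψ u) (σ i) = Multiplicative.toAdd (ψ u) i) → ∀ i, v (σ i) = v i := by
    intro v hv σ h i
    obtain ⟨u, hu⟩ := hψ2 v hv
    rw [← hu]; exact h u i
  -- kernel
  have hρ1 : ∀ e : ↥E, ρ e = 1 ↔ (e : G) ∈ pCoreOf p E := by
    intro e
    constructor
    · intro h
      refine stab_inf_le_core hE (Subgroup.mem_inf.2 ⟨e.2, ?_⟩)
      refine mem_stab_of_le inf_le_left (le_normalizer_bW E e.2) fun a ha => ?_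
      obtain ⟨w, hw, hw'⟩ := heq e ⟨a, ha⟩
      have h1 : ψ w = ψ ⟨a, ha⟩ := Multiplicative.toAdd.injective (funext fun i => by rw [hw' i, h]; rfl)
      have h2 : ψ (⟨a, ha⟩ * w⁻¹) = 1 := by rw [map_mul, map_inv, h1, mul_inv_cancel]
      have h3 := (hker _).1 h2
      rw [Subgroup.coe_mul, InvMemClass.coe_inv, hw] at h3
      convert h3 using 1
      rw [commutatorElement_def]; group
    · intro he
      refine Perm.ext fun i => ?_
      by_contra hi
      have hi' : ρ e i ≠ i := hi
      obtain ⟨r, hr, hr'⟩ : ∃ r, r ≠ i ∧ r ≠ ρ e i := by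
        obtain ⟨r, hr⟩ := ((Finset.univ : Finset (Fin n)) \ {i, ρ e i}).card_pos.1 (by
          have := Finset.card_le_two (a := i) (b := ρ e i)
          rw [Finset.card_sdiff, Finset.inter_univ, Finset.card_univ, Fintype.card_fin]; omega)
        simp only [Finset.mem_sdiff, Finset.mem_univ, true_and, Finset.mem_insert, Finset.mem_singleton, not_or] at hr
        exact ⟨r, hr⟩
      obtain ⟨u, hu⟩ := hψ2 (pairVec i r) (sum_pairVec i r)
      obtain ⟨w, hw, hw'⟩ := heq e u
      have hwu : w = u := Subtype.ext (by rw [hw, core_comm he u.2, mul_inv_cancel_right])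
      have h1 := hw' (ρ e i)
      rw [hwu, hu, Perm.inv_def, Equiv.symm_apply_apply, pairVec_apply, pairVec_apply, if_pos rfl, if_neg hr.symm,
        if_neg hi', if_neg hr'.symm] at h1
      exact absurd h1 (by decide)
  let ρ' : ↥E →* ↥(alternatingGroup (Fin n)) :=
    ρ.codRestrict _ fun e => hρ.le ⟨e, rfl⟩
  have hρ's : Function.Surjective ρ' := fun x => by
    obtain ⟨e, he⟩ := MonoidHom.mem_range.1 (hρ.ge x.2)
    exact ⟨e, Subtype.ext he⟩
  have hρ'k : ∀ e, ρ' e = 1 ↔ (e : G) ∈ pCoreOf p E := fun e => by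
    rw [← hρ1]
    exact ⟨fun h => congrArg Subtype.val h, fun h => Subtype.ext h⟩
  set N := normalizer (E : Set G) with hN
  have hconjE : ∀ g ∈ N, ∀ e : ↥E, g * (e : G) * g⁻¹ ∈ E := fun g hg e => (mem_normalizer_iff.1 hg _).1 e.2
  -- conjugation by an element of `N(E)` is a permutation
  have hperm : ∀ g : ↥N, ∃ π : Perm (Fin n), ∀ e : ↥E,
      ρ ⟨(g : G) * e * (g : G)⁻¹, hconjE g g.2 e⟩ = π * ρ e * π⁻¹ := by
    intro g
    let cg : ↥E →* ↥E :=
      { toFun := fun e => ⟨(g : G) * e * (g : G)⁻¹, hconjE g g.2 e⟩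
        map_one' := Subtype.ext (by simp)
        map_mul' := fun a b => Subtype.ext (by simp [mul_assoc]) }
    let f := (ρ'.liftOfSurjective hρ's) ⟨ρ'.comp cg, fun e he => by
      rw [MonoidHom.mem_ker, MonoidHom.comp_apply, hρ'k]
      exact (mem_normalizer_iff.1 (Block.normalizer_le_pCoreOf E g.2) _).1 ((hρ'k e).1 he)⟩
    have hf : ∀ e, f (ρ' e) = ρ' (cg e) := fun e =>
      MonoidHom.liftOfRightInverse_comp_apply ρ' _ _ _ e
    have hfs : Function.Surjective f := by
      intro x
      obtain ⟨e, rfl⟩ := hρ's x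
      refine ⟨ρ' ⟨(g : G)⁻¹ * e * g, (mem_normalizer_iff''.1 g.2 _).1 e.2⟩, ?_⟩
      rw [hf]
      congr 1
      exact Subtype.ext (by simp [cg]; group)
    let φ : MulAut ↥(alternatingGroup (Fin n)) :=
      MulEquiv.ofBijective f ⟨Finite.injective_iff_surjective.2 hfs, hfs⟩
    obtain ⟨π, hπ⟩ := (CfsgLib.Known.AltAut.bijective_conjNormal (by omega) (by omega)).2 φ
    refine ⟨π, fun e => ?_⟩
    have h1 := congrArg (fun a : MulAut ↥(alternatingGroup (Fin n)) => ((a (ρ' e)) : Perm (Fin n))) hπ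
    rw [MulAut.conjNormal_apply] at h1
    exact (h1.trans (congrArg Subtype.val (hf e))).symm
  choose π hπ using hperm
  have huniq : ∀ a b : Perm (Fin n), (∀ e, a * ρ e * a⁻¹ = b * ρ e * b⁻¹) → a = b := fun a b h =>
    (CfsgLib.Known.AltAut.bijective_conjNormal (n := n) (by omega) (by omega)).1 (MulEquiv.ext fun x => by
      obtain ⟨e, rfl⟩ := hρ's x
      exact Subtype.ext (by rw [MulAut.conjNormal_apply, MulAut.conjNormal_apply]; exact h e))
  have hπmul : ∀ g h : ↥N, π (g * h) = π g * π h := fun g h => huniq _ _ fun e => by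
    rw [← hπ (g * h) e, show π g * π h * ρ e * (π g * π h)⁻¹ = π g * (π h * ρ e * (π h)⁻¹) * (π g)⁻¹ by group,
      ← hπ h e, ← hπ g]
    congr 1
    exact Subtype.ext (by simp [mul_assoc])
  let θ : ↥N →* ℤˣ := MonoidHom.mk' (fun g => Perm.sign (π g)) fun g h => by rw [hπmul, map_mul]
  -- elements with trivial permutation centralise `W_E`
  have htriv : ∀ c : ↥N, π c = 1 → (c : G) ∈ cW p E := by
    intro c hc
    refine centralizes_of_modZ hE c.2 ?_
    let K : Subgroup G :=
      { carrier := {u | u ∈ bW p E ∧ ⁅(c : G), u⁆ ∈ bZ p E}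
        one_mem' := ⟨one_mem _, by simp [one_mem]⟩
        mul_mem' := fun {a b} ha hb => ⟨mul_mem ha.1 hb.1, by
          rw [show ⁅(c : G), a * b⁆ = ⁅(c : G), a⁆ * (a * ⁅(c : G), b⁆ * a⁻¹) by simp only [commutatorElement_def]; group,
            bW_comm ha.1 hb.2.1, mul_inv_cancel_right]
          exact mul_mem ha.2 hb.2⟩
        inv_mem' := fun {a} ha => ⟨inv_mem ha.1, by
          rw [show ⁅(c : G), a⁻¹⁆ = a⁻¹ * ⁅(c : G), a⁆⁻¹ * a⁻¹⁻¹ by simp only [commutatorElement_def]; group,
            bW_comm (inv_mem ha.1) (inv_mem ha.2.1), mul_inv_cancel_right]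
          exact inv_mem ha.2⟩ }
    have hZn : (c : G) ∈ normalizer (bZ p E : Set G) := normalizer_le_bZ E c.2
    have hZK : ∀ z ∈ bZ p E, z ∈ K := fun z hz => ⟨hz.1, by
      rw [commutatorElement_def]; exact mul_mem ((mem_normalizer_iff.1 hZn z).1 hz) (inv_mem hz)⟩
    have hpair : ∀ i j : Fin n, i ≠ j → ∀ u : ↥(bW p E), Multiplicative.toAdd (ψ u) = pairVec i j → (u : G) ∈ K := by
      intro i j hij u hu
      refine ⟨u.2, ?_⟩
      set u' : ↥(bW p E) := ⟨(c : G) * u * (c : G)⁻¹, hne c.2⟩ with hu'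
      have hfix : ∀ k l, k ≠ i → k ≠ j → l ≠ i → l ≠ j → k ≠ l → ∀ r,
          Multiplicative.toAdd (ψ u') ((swap i j * swap k l)⁻¹ r) = Multiplicative.toAdd (ψ u') r := by
        intro k l h1 h2 h3 h4 hkl r
        have hmem : swap i j * swap k l ∈ alternatingGroup (Fin n) := by
          rw [Perm.mem_alternatingGroup, map_mul, Perm.sign_swap hij, Perm.sign_swap hkl]; decide
        obtain ⟨e, he⟩ := MonoidHom.mem_range.1 (hρ.ge hmem)
        obtain ⟨w, hw, hw'⟩ := heq e u
        have hwu : ψ w = ψ u := Multiplicative.toAdd.injective (funext fun t => by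
          rw [hw' t, hu, he, pairVec_apply, pairVec_apply, _root_.mul_inv_rev, Perm.mul_apply, swap_inv, swap_inv]
          by_cases hti : t = i
          · rw [hti, swap_apply_left, swap_apply_of_ne_of_ne h2.symm h4.symm, if_neg hij.symm, if_pos rfl,
              if_pos rfl, if_neg hij, zero_add, add_zero]
          by_cases htj : t = j
          · rw [htj, swap_apply_right, swap_apply_of_ne_of_ne h1.symm h3.symm, if_neg hij, if_pos rfl,
              if_pos rfl, if_neg hij.symm, zero_add, add_zero]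
          rw [swap_apply_of_ne_of_ne hti htj, if_neg hti, if_neg htj]
          by_cases htk : t = k
          · rw [htk, swap_apply_left, if_neg h3, if_neg h4]
          by_cases htl : t = l
          · rw [htl, swap_apply_right, if_neg h1, if_neg h2]
          rw [swap_apply_of_ne_of_ne htk htl, if_neg hti, if_neg htj])
        set ce : ↥E := ⟨(c : G) * e * (c : G)⁻¹, hconjE c c.2 e⟩ with hce
        obtain ⟨w', hw'1, hw'2⟩ := heq ce u'
        have hρc : ρ ce = swap i j * swap k l := by rw [hce, hπ c e, hc, he]; group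
        have h6 := hw'2 r
        rw [hρc] at h6
        rw [← h6]
        have hq : (u : G) * (w : G)⁻¹ ∈ bZ p E := by
          have := (hker (u * w⁻¹)).1 (by rw [map_mul, map_inv, hwu, mul_inv_cancel])
          simpa using this
        have h7 : ψ (u' * w'⁻¹) = 1 := (hker _).2 (by
          rw [Subgroup.coe_mul, InvMemClass.coe_inv, hw'1, hu', hce,
            show (c : G) * (u : G) * (c : G)⁻¹ * ((c : G) * e * (c : G)⁻¹ * ((c : G) * (u : G) * (c : G)⁻¹) *
              ((c : G) * e * (c : G)⁻¹)⁻¹)⁻¹ = (c : G) * ((u : G) * ((e : G) * u * (e : G)⁻¹)⁻¹) * (c : G)⁻¹ by group,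
            ← hw]
          exact (mem_normalizer_iff.1 hZn _).1 hq)
        rw [map_mul, map_inv, mul_inv_eq_one] at h7
        rw [h7]
      rcases eq_zero_or_pairVec ⟨m, hn⟩ hij (hψ1 u') hfix h5 with h | h
      · exfalso
        have h1 : (u' : G) ∈ bZ p E := (hker u').1 (Multiplicative.toAdd.injective (by rw [h]; rfl))
        have h2 : (u : G) ∈ bZ p E := (mem_normalizer_iff.1 hZn _).2 h1
        have h3 := congrFun (hu.symm.trans (congrArg Multiplicative.toAdd ((hker u).2 h2))) i
        rw [pairVec_apply, if_pos rfl, if_neg hij] at h3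
        exact absurd h3 (by simp)
      · have h7 : ψ (u' * u⁻¹) = 1 := by
          rw [map_mul, map_inv, mul_inv_eq_one]
          exact Multiplicative.toAdd.injective (h.trans hu.symm)
        have h8 := (hker _).1 h7
        rw [commutatorElement_def]
        simpa [hu'] using h8
    have hallK : ∀ k : ℕ, ∀ u : ↥(bW p E),
        (Finset.univ.filter fun i => Multiplicative.toAdd (ψ u) i ≠ 0).card = k → (u : G) ∈ K := by
      intro k
      induction k using Nat.strong_induction_on with
      | _ k ih =>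
        intro u hu
        set v := Multiplicative.toAdd (ψ u) with hv
        by_cases h0 : v = 0
        · exact hZK _ ((hker u).1 (Multiplicative.toAdd.injective (h0.trans rfl)))
        obtain ⟨i, hi⟩ := Function.ne_iff.1 h0
        obtain ⟨j, hji, hj⟩ : ∃ j, j ≠ i ∧ v j ≠ 0 := by
          by_contra hc'
          push Not at hc'
          have := hψ1 u
          rw [← hv, Finset.sum_eq_single i (fun b _ hb => hc' b hb) (fun h => absurd (Finset.mem_univ i) h)] at this
          exact hi this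
        obtain ⟨u₁, hu₁⟩ := hψ2 (pairVec i j) (sum_pairVec i j)
        have h2 : (u * u₁⁻¹ : ↥(bW p E)).1 ∈ K := by
          refine ih _ ?_ _ rfl
          rw [← hu]
          refine Finset.card_lt_card ((Finset.ssubset_iff_of_subset ?_).2 ⟨i, ?_, ?_⟩)
          · intro t ht
            simp only [Finset.mem_filter, Finset.mem_univ, true_and, map_mul, map_inv, toAdd_mul, toAdd_inv,
              hu₁, Pi.add_apply, Pi.neg_apply, pairVec_apply] at ht ⊢
            by_cases hti : t = i
            · rw [hti]; exact hi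
            by_cases htj : t = j
            · rw [htj]; exact hj
            simpa [hti, htj, ← hv] using ht
          · simp only [Finset.mem_filter, Finset.mem_univ, true_and]
            exact hi
          · simp only [Finset.mem_filter, Finset.mem_univ, true_and, not_not, map_mul, map_inv, toAdd_mul,
              toAdd_inv, hu₁, Pi.add_apply, Pi.neg_apply, pairVec_apply, if_pos, if_neg hji.symm, add_zero, ← hv]
            have key : ∀ x : ZMod 2, x ≠ 0 → x = 1 := by decide
            rw [key (v i) hi]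
            exact add_neg_cancel 1
        have := mul_mem h2 (hpair i j hji.symm u₁ hu₁)
        rwa [Subgroup.coe_mul, InvMemClass.coe_inv, inv_mul_cancel_right] at this
    intro w hw
    exact ((hallK _ ⟨w, bWE_le E hw⟩ rfl).2).2
  -- the block `F`
  set M := E ⊔ (N ⊓ cW p E) with hM
  conv_lhs => rw [← hF.1]
  refine Baumann.pResidualOf_le_iff.2 fun f hf hco => ?_
  let g : ↥N := ⟨f, hFE hf⟩
  have hθ : θ g = 1 := by
    refine orderOf_eq_one_iff.1 (Nat.eq_one_of_dvd_coprimes (hco.coprime_dvd_left ?_) dvd_rfl ?_)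
    · exact (orderOf_map_dvd θ g).trans (by rw [Subgroup.orderOf_mk])
    · rw [hp2]; exact orderOf_dvd_of_pow_eq_one (Int.units_pow_two _)
  obtain ⟨e, he⟩ := MonoidHom.mem_range.1 (hρ.ge (Perm.mem_alternatingGroup.2 hθ))
  let c : ↥N := ⟨(e : G)⁻¹ * f, mul_mem (inv_mem (le_normalizer e.2)) (hFE hf)⟩
  have hc : π c = 1 := by
    have heN : π ⟨(e : G), le_normalizer e.2⟩ = ρ e := huniq _ _ fun x => by
      rw [← hπ, ← map_inv, ← map_mul, ← map_mul]
      congr 1
    have h1 := hπmul ⟨(e : G), le_normalizer e.2⟩ c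
    rw [show (⟨(e : G), le_normalizer e.2⟩ : ↥N) * c = g from Subtype.ext (mul_inv_cancel_left _ _), heN, he] at h1
    exact left_eq_mul.1 h1
  have := mul_mem (mem_sup_left (T := N ⊓ cW p E) e.2)
    (mem_sup_right (S := E) (Subgroup.mem_inf.2 ⟨c.2, htriv c hc⟩))
  rwa [mul_inv_cancel_left] at this

end CfsgLib.LocalEven.BlockBaumann
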