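import Mathlib
import Cfsg.Agent.Lib.LocalEven.SubBlock.Main
import Cfsg.Agent.Lib.Invol.QDW.Transport
import Cfsg.Agent.Lib.Transfer.Factorizable
import Cfsg.Agent.Lib.Cores.ExtLayer

/-!
`B(T)`-blocks under automorphisms.
-/

set_option autoImplicit false

namespace CfsgLib.LocalEven.BlockBaumann

open Subgroup Cfsg
open scoped Pointwise commutatorElement

variable {G : Type*} [Group G] {p : ℕ} (f : G ≃* G)

theorem map_inj : Function.Injective f.toMonoidHom := f.injective

theorem map_centralizer (X : Subgroup G) :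
    (centralizer (X : Set G)).map f.toMonoidHom = centralizer ((X.map f.toMonoidHom : Subgroup G) : Set G) :=
  CfsgLib.Cores.map_centralizer_equiv f X

theorem map_omegaOne (X : Subgroup G) : (omegaOne p X).map f.toMonoidHom = omegaOne p (X.map f.toMonoidHom) := by
  rw [omegaOne, omegaOne, MonoidHom.map_closure]
  congr 1
  ext y
  constructor
  · rintro ⟨x, ⟨hx, hxp⟩, rfl⟩
    exact ⟨mem_map_of_mem _ hx, by rw [← map_pow, hxp, map_one]⟩
  · rintro ⟨⟨x, hx, rfl⟩, hxp⟩
    exact ⟨x, ⟨hx, f.injective (by rw [map_pow, map_one]; exact hxp)⟩, rfl⟩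

theorem map_inf_centralizer (X : Subgroup G) :
    (X ⊓ centralizer (X : Set G)).map f.toMonoidHom =
      X.map f.toMonoidHom ⊓ centralizer ((X.map f.toMonoidHom : Subgroup G) : Set G) := by
  rw [Subgroup.map_inf _ _ _ f.injective, map_centralizer]

theorem map_omegaOneCenter (X : Subgroup G) :
    (omegaOneCenter p X).map f.toMonoidHom = omegaOneCenter p (X.map f.toMonoidHom) := by
  rw [omegaOneCenter, omegaOneCenter, map_omegaOne, map_inf_centralizer]

theorem map_baumann (T : Subgroup G) :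
    (baumannSubgroupOf p T).map f.toMonoidHom = baumannSubgroupOf p (T.map f.toMonoidHom) := by
  rw [baumannSubgroupOf, baumannSubgroupOf, Subgroup.map_inf _ _ _ f.injective, map_centralizer,
    map_omegaOne, centerThompsonOf, centerThompsonOf, map_inf_centralizer,
    CfsgLib.Transfer.thompsonSubgroupOf_map _ f.injective.injOn]

theorem map_pResidualOf (E : Subgroup G) :
    (pResidualOf p E).map f.toMonoidHom = pResidualOf p (E.map f.toMonoidHom) := by
  refine le_antisymm (map_le_iff_le_comap.2 (Baumann.pResidualOf_le_iff.2 fun e he hc => ?_))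
    (Baumann.pResidualOf_le_iff.2 ?_)
  · exact Baumann.pResidualOf_le_iff.1 le_rfl _ (mem_map_of_mem _ he) (by
      show (orderOf (f e)).Coprime p
      rwa [MulEquiv.orderOf_eq])
  · rintro _ ⟨e, he, rfl⟩ hc
    refine mem_map_of_mem _ (Baumann.pResidualOf_le_iff.1 le_rfl e he ?_)
    rw [← MulEquiv.orderOf_eq f e]
    exact hc

/-- A subgroup is isomorphic to its image. -/
def mEquiv (E : Subgroup G) : ↥E ≃* ↥(E.map f.toMonoidHom) := f.subgroupMap E

/-- A subgroup is isomorphic to its image, compatibly with `O_p`. -/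
theorem quot_iso {R : Type*} [Group R] (E : Subgroup G) [(pCore p ↥E).Normal]
    [(pCore p ↥(E.map f.toMonoidHom)).Normal] (h : Nonempty (↥E ⧸ pCore p ↥E ≃* R)) :
    Nonempty (↥(E.map f.toMonoidHom) ⧸ pCore p ↥(E.map f.toMonoidHom) ≃* R) := by
  obtain ⟨g⟩ := h
  refine ⟨(QuotientGroup.congr (pCore p ↥E) (pCore p ↥(E.map f.toMonoidHom)) (mEquiv f E) ?_).symm.trans g⟩
  exact CfsgLib.Cores.map_pCore_equiv _

theorem actsSL2_map {F : Type*} [Field F] {R : Subgroup (Matrix.SpecialLinearGroup (Fin 2) F)}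
    {E U U₀ : Subgroup G} (h : ActsAsSL2OnSection F R E U U₀) :
    ActsAsSL2OnSection F R (E.map f.toMonoidHom) (U.map f.toMonoidHom) (U₀.map f.toMonoidHom) := by
  obtain ⟨hEU, hU0, ρ, ψ, hρ, hψ, hker, heq⟩ := h
  refine ⟨(map_mono hEU).trans (le_normalizer_map _), map_mono hU0,
    ρ.comp (mEquiv f E).symm.toMonoidHom, ψ.comp (mEquiv f U).symm.toMonoidHom, ?_, ?_, ?_, ?_⟩
  · rw [MonoidHom.range_comp, MonoidHom.range_eq_top.2 (mEquiv f E).symm.surjective,
      ← MonoidHom.range_eq_map, hρ]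
  · exact hψ.comp (mEquiv f U).symm.surjective
  · intro u
    obtain ⟨v, rfl⟩ := (mEquiv f U).surjective u
    show ψ ((mEquiv f U).symm (mEquiv f U v)) = 1 ↔ _
    rw [MulEquiv.symm_apply_apply, hker]
    exact (mem_map_iff_mem f.injective).symm
  · intro e u
    obtain ⟨a, rfl⟩ := (mEquiv f E).surjective e
    obtain ⟨v, rfl⟩ := (mEquiv f U).surjective u
    obtain ⟨w, hw, hw'⟩ := heq a v
    refine ⟨mEquiv f U w, ?_, ?_⟩
    · show f (w : G) = f a * f v * (f a)⁻¹
      rw [hw, map_mul, map_mul, map_inv]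
    · show Multiplicative.toAdd (ψ ((mEquiv f U).symm (mEquiv f U w))) =
        (ρ ((mEquiv f E).symm (mEquiv f E a)) : Matrix (Fin 2) (Fin 2) F).mulVec
          (Multiplicative.toAdd (ψ ((mEquiv f U).symm (mEquiv f U v))))
      rw [MulEquiv.symm_apply_apply, MulEquiv.symm_apply_apply, MulEquiv.symm_apply_apply]
      exact hw'

theorem actsPerm_map {n : ℕ} {R : Subgroup (Equiv.Perm (Fin n))} {E U U₀ : Subgroup G}
    (h : ActsAsOddPermModuleOnSection n R E U U₀) :
    ActsAsOddPermModuleOnSection n R (E.map f.toMonoidHom) (U.map f.toMonoidHom) (U₀.map f.toMonoidHom) := by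
  obtain ⟨hEU, hU0, ρ, ψ, hρ, h1, h2, hker, heq⟩ := h
  refine ⟨(map_mono hEU).trans (le_normalizer_map _), map_mono hU0,
    ρ.comp (mEquiv f E).symm.toMonoidHom, ψ.comp (mEquiv f U).symm.toMonoidHom, ?_, ?_, ?_, ?_, ?_⟩
  · rw [MonoidHom.range_comp, MonoidHom.range_eq_top.2 (mEquiv f E).symm.surjective,
      ← MonoidHom.range_eq_map, hρ]
  · exact fun u => h1 _
  · intro v hv
    obtain ⟨u, hu⟩ := h2 v hv
    refine ⟨mEquiv f U u, ?_⟩
    show Multiplicative.toAdd (ψ ((mEquiv f U).symm (mEquiv f U u))) = v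
    rw [MulEquiv.symm_apply_apply, hu]
  · intro u
    obtain ⟨v, rfl⟩ := (mEquiv f U).surjective u
    show ψ ((mEquiv f U).symm (mEquiv f U v)) = 1 ↔ _
    rw [MulEquiv.symm_apply_apply, hker]
    exact (mem_map_iff_mem f.injective).symm
  · intro e u
    obtain ⟨a, rfl⟩ := (mEquiv f E).surjective e
    obtain ⟨v, rfl⟩ := (mEquiv f U).surjective u
    obtain ⟨w, hw, hw'⟩ := heq a v
    refine ⟨mEquiv f U w, ?_, ?_⟩
    · show f (w : G) = f a * f v * (f a)⁻¹
      rw [hw, map_mul, map_mul, map_inv]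
    · show ∀ i, Multiplicative.toAdd (ψ ((mEquiv f U).symm (mEquiv f U w))) i =
        Multiplicative.toAdd (ψ ((mEquiv f U).symm (mEquiv f U v)))
          ((ρ ((mEquiv f E).symm (mEquiv f E a)))⁻¹ i)
      rw [MulEquiv.symm_apply_apply, MulEquiv.symm_apply_apply, MulEquiv.symm_apply_apply]
      exact hw'

theorem map_frattiniOf (Q : Subgroup G) :
    ((frattini ↥Q).map Q.subtype).map f.toMonoidHom =
      (frattini ↥(Q.map f.toMonoidHom)).map (Q.map f.toMonoidHom).subtype := by
  have h : frattini ↥(Q.map f.toMonoidHom) = (frattini ↥Q).map (mEquiv f Q).toMonoidHom :=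
    (CfsgLib.Invol.QDW.map_frattini (mEquiv f Q)).symm
  rw [h, Subgroup.map_map, Subgroup.map_map]
  rfl

/-- Blocks are carried to blocks by automorphisms. -/
theorem isBlock_map {T E : Subgroup G} (hE : IsBaumannBlock p T E) :
    IsBaumannBlock p (T.map f.toMonoidHom) (E.map f.toMonoidHom) := by
  haveI := CfsgLib.Cores.pCore_characteristic (G := ↥E) p
  haveI := CfsgLib.Cores.pCore_characteristic (G := ↥(E.map f.toMonoidHom)) p
  obtain ⟨h1, h2, h3, h4, h5⟩ := hE
  have hQ := CfsgLib.LocalEven.pCoreOf_map p f E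
  have hW : (omegaOneCenter p (pCoreOf p E)).map f.toMonoidHom =
      omegaOneCenter p (pCoreOf p (E.map f.toMonoidHom)) := by rw [map_omegaOneCenter, hQ]
  have hC : (centralizer (E : Set G)).map f.toMonoidHom =
      centralizer ((E.map f.toMonoidHom : Subgroup G) : Set G) := map_centralizer f E
  have hZ : (omegaOneCenter p (pCoreOf p E) ⊓ centralizer (E : Set G)).map f.toMonoidHom =
      omegaOneCenter p (pCoreOf p (E.map f.toMonoidHom)) ⊓
        centralizer ((E.map f.toMonoidHom : Subgroup G) : Set G) := by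
    rw [Subgroup.map_inf _ _ _ f.injective, hW, hC]
  refine ⟨by rw [← map_pResidualOf, h1], by rw [← map_baumann, ← map_commutator, h2],
    by rw [hQ, ← map_commutator, h3], fun h => h4 ?_, ?_⟩
  · rw [← map_omegaOneCenter, ← map_commutator, Subgroup.map_eq_bot_iff_of_injective _ f.injective] at h
    exact h
  rcases h5 with ⟨F, iF, iFt, n, hn, hiso, hsec, hQW⟩ | ⟨hp, m, hiso, hsec, hQW⟩
  · refine Or.inl ⟨F, iF, iFt, n, hn, quot_iso f E hiso, ?_, ?_⟩
    · rw [← hW, ← hC, ← Subgroup.map_inf _ _ _ f.injective]; exact actsSL2_map f hsec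
    rcases hQW with h | ⟨hp, hs, hd, hf, hc, hcard, hq⟩
    · exact Or.inl (by rw [← hW, hQ, ← h])
    refine Or.inr ⟨hp, ?_, ?_, ?_, ?_, ?_, ?_⟩
    · rw [← hW, hQ]; exact actsSL2_map f hs
    · rw [← hZ, hQ, ← map_commutator, hd]
    · rw [← hZ, hQ, ← hf]
      exact (map_frattiniOf f (pCoreOf p E)).symm
    · rw [← hZ, ← hC, ← Subgroup.map_inf _ _ _ f.injective, hc]
    · rw [← hC, ← Subgroup.map_inf _ _ _ f.injective, card_map_of_injective f.injective, hcard]
    · intro b hb hbc hle
      rw [← map_baumann] at hb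
      obtain ⟨a, ha, rfl⟩ := hb
      rw [← hW, ← map_centralizer, mem_map_iff_mem f.injective] at hbc
      refine hq a ha hbc ?_
      rw [hQ, ← MonoidHom.map_zpowers, ← map_commutator, ← map_commutator, ← hC,
        ← Subgroup.map_inf _ _ _ f.injective, map_le_map_iff_of_injective f.injective] at hle
      exact hle
  · refine Or.inr ⟨hp, m, quot_iso f E hiso, ?_, by rw [← hW, hQ, ← hQW]⟩
    rw [← hW, ← hC, ← Subgroup.map_inf _ _ _ f.injective]; exact actsPerm_map f hsec

theorem smul_coe [Finite G] [Fact p.Prime] (g : G) (T : Sylow p G) :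
    ((g • T : Sylow p G) : Subgroup G) = (T : Subgroup G).map (MulAut.conj g).toMonoidHom := by
  rw [Sylow.coe_subgroup_smul, CfsgLib.Solvable.conj_smul_eq_map]

/-- Conjugates of blocks. -/
theorem isBlock_conj [Finite G] [Fact p.Prime] {T : Sylow p G} {E : Subgroup G}
    (hE : IsBaumannBlock p (T : Subgroup G) E) (g : G) :
    IsBaumannBlock p ((g • T : Sylow p G) : Subgroup G) (E.map (MulAut.conj g).toMonoidHom) := by
  rw [smul_coe]
  exact isBlock_map (MulAut.conj g) hE

end CfsgLib.LocalEven.BlockBaumann
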