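import Mathlib
import Cfsg.Agent.Lib.LocalEven.SubBlock.Section
import Cfsg.Agent.Lib.PGroup.Counting
import Cfsg.Agent.Lib.Transfer.Thompson

/-!
Replacement for an elementary abelian subgroup of largest order acting on an elementary abelian group.
-/

set_option autoImplicit false

namespace CfsgLib.LocalEven.BlockBaumann

open Subgroup Cfsg
open scoped commutatorElement

variable {G : Type*} [Group G] [Finite G] {p : ℕ} [Fact p.Prime] {A W : Subgroup G}

omit [Finite G] [Fact p.Prime] in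
theorem elemAb_sup {B C : Subgroup G} (hB : IsElementaryAbelian p B) (hC : IsElementaryAbelian p C)
    (h : ∀ b ∈ B, ∀ c ∈ C, b * c = c * b) : IsElementaryAbelian p (B ⊔ C) := by
  have hs : ∀ u ∈ ((B : Set G) ∪ C), ∀ v ∈ ((B : Set G) ∪ C), u * v = v * u := by
    rintro u (hu | hu) v (hv | hv)
    · exact CfsgLib.PGroup.elemAb_comm hB hu hv
    · exact h u hu v hv
    · exact (h v hv u hu).symm
    · exact CfsgLib.PGroup.elemAb_comm hC hu hv
  rw [show B ⊔ C = closure ((B : Set G) ∪ C) by rw [Subgroup.closure_union, closure_eq, closure_eq]]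
  haveI hcm := isMulCommutative_closure hs
  refine ⟨inferInstance, fun a ha => ?_⟩
  induction ha using closure_induction with
  | mem y hy => rcases hy with hy | hy; exacts [hB.2 y hy, hC.2 y hy]
  | one => exact one_pow p
  | mul y w hy hw iy iw =>
    have hcomm : Commute y w :=
      congrArg Subtype.val (hcm.1.comm (⟨y, hy⟩ : ↥(closure ((B : Set G) ∪ C))) ⟨w, hw⟩)
    rw [hcomm.mul_pow, iy, iw, one_mul]
  | inv y hy iy => rw [inv_pow, iy, inv_one]

/-- An elementary abelian subgroup of largest order is a best offender on `W`. -/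
theorem offender_max (hA : A ∈ maxElementaryAbelianSubgroups p G) (hW : IsElementaryAbelian p W)
    {B : Subgroup G} (hB : B ≤ A) :
    Nat.card ↥B * Nat.card ↥(W ⊓ centralizer (B : Set G)) ≤
      Nat.card ↥A * Nat.card ↥(W ⊓ centralizer (A : Set G)) := by
  refine (CfsgLib.PGroup.card_mul_card_le_sup_inf B (W ⊓ centralizer (B : Set G))).trans ?_
  refine Nat.mul_le_mul (hA.2 _ (elemAb_sup (CfsgLib.PGroup.elemAb_mono hA.1 hB)
    (CfsgLib.PGroup.elemAb_mono hW inf_le_left)
    fun b hb c hc => mem_centralizer_iff.1 hc.2 b hb)) (card_le_of_le fun x hx => ⟨hx.2.1, ?_⟩)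
  exact mem_centralizer_iff.2 fun a ha => CfsgLib.PGroup.elemAb_comm hA.1 ha (hB hx.1)

/-- `[S, A] C_W(A)` for a subset `S` of `W`. -/
def replM (A W : Subgroup G) (S : Set G) : Subgroup G :=
  closure {x | ∃ u ∈ S, ∃ a ∈ A, ⁅u, a⁆ = x} ⊔ (W ⊓ centralizer (A : Set G))

omit [Fact p.Prime] in
theorem replM_le (hAW : A ≤ normalizer (W : Set G)) {S : Set G} (hS : S ⊆ W) : replM A W S ≤ W := by
  refine sup_le ((closure_le _).2 ?_) inf_le_left
  rintro _ ⟨u, hu, a, ha, rfl⟩
  rw [commutatorElement_def, mul_assoc u a u⁻¹, mul_assoc]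
  exact mul_mem (hS hu) (Baumann.conj_mem_of_le_normalizer hAW ha (inv_mem (hS hu)))

theorem replacement_card (hA : A ∈ maxElementaryAbelianSubgroups p G) (hW : IsElementaryAbelian p W)
    (hAW : A ≤ normalizer (W : Set G)) (s : Finset G) (hs : (s : Set G) ⊆ W) :
    Nat.card ↥A * Nat.card ↥(W ⊓ centralizer (A : Set G)) ≤
      Nat.card ↥(A ⊓ centralizer (replM A W s : Set G)) * Nat.card ↥(replM A W (s : Set G)) := by
  classical
  induction s using Finset.induction with
  | empty =>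
    refine Nat.mul_le_mul (card_le_of_le ?_) (card_le_of_le le_sup_right)
    refine le_inf le_rfl (le_centralizer_iff.1 (sup_le ((closure_le _).2 ?_) inf_le_right))
    rintro _ ⟨u, hu, -⟩
    simp at hu
  | insert u s _ ih =>
    rw [Finset.coe_insert, Set.insert_subset_iff] at hs
    obtain ⟨huW, hsW⟩ := hs
    set C := W ⊓ centralizer (A : Set G) with hC
    have hWc : ∀ {a b : G}, a ∈ W → b ∈ W → a * b = b * a := fun ha hb => CfsgLib.PGroup.elemAb_comm hW ha hb
    have hAc : ∀ {a b : G}, a ∈ A → b ∈ A → a * b = b * a := fun ha hb => CfsgLib.PGroup.elemAb_comm hA.1 ha hb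
    have hcomW : ∀ a ∈ A, ⁅u, a⁆ ∈ W := fun a ha => by
      rw [commutatorElement_def, mul_assoc u a u⁻¹, mul_assoc]
      exact mul_mem huW (Baumann.conj_mem_of_le_normalizer hAW ha (inv_mem huW))
    -- a single element
    have hone : Nat.card ↥A * Nat.card ↥C ≤
        Nat.card ↥(A ⊓ centralizer (replM A W {u} : Set G)) * Nat.card ↥(replM A W {u}) := by
      let g : ↥A → G ⧸ C := fun a => QuotientGroup.mk ⁅u, (a : G)⁆
      let r : ↥A → ↥A := fun a => Function.invFun g (g a)
      haveI : Nonempty ↥A := ⟨1⟩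
      have hr : ∀ a, g (r a) = g a := fun a => Function.invFun_eq ⟨a, rfl⟩
      have hmem : ∀ a : ↥A, (r a : G)⁻¹ * a ∈ A ⊓ centralizer (replM A W {u} : Set G) := by
        intro a
        have hx : (r a : G)⁻¹ * a ∈ A := mul_mem (inv_mem (r a).2) a.2
        refine ⟨hx, ?_⟩
        set x := (r a : G)⁻¹ * a with hxdef
        have hq : ⁅u, (r a : G)⁆⁻¹ * ⁅u, (a : G)⁆ ∈ C := QuotientGroup.eq.1 (hr a)
        have hd : ⁅u, x⁆ ∈ C := by
          have e1 : ⁅u, (a : G)⁆ = ⁅u, (r a : G)⁆ * ((r a : G) * ⁅u, x⁆ * (r a : G)⁻¹) := by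
            rw [hxdef]; simp only [commutatorElement_def]; group
          rw [e1, inv_mul_cancel_left] at hq
          have h2 := mem_centralizer_iff.1 hq.2 _ (inv_mem (r a).2)
          have e2 : ⁅u, x⁆ = (r a : G) * ⁅u, x⁆ * (r a : G)⁻¹ := by
            calc ⁅u, x⁆ = ((r a : G)⁻¹ * ((r a : G) * ⁅u, x⁆ * (r a : G)⁻¹)) * (r a : G) := by group
              _ = _ := by rw [h2, inv_mul_cancel_right]
          rw [e2]; exact hq
        suffices replM A W {u} ≤ centralizer ({x} : Set G) from mem_centralizer_iff.2 fun y hy =>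
          (mem_centralizer_iff.1 (this hy) x rfl).symm
        refine sup_le ((closure_le _).2 ?_) fun y hy => mem_centralizer_iff.2 fun z hz => by
          rw [Set.mem_singleton_iff.1 hz]; exact mem_centralizer_iff.1 hy.2 x hx
        rintro _ ⟨v, hv, c, hc, rfl⟩
        rw [Set.mem_singleton_iff.1 hv]
        refine mem_centralizer_iff.2 fun z hz => ?_
        rw [Set.mem_singleton_iff.1 hz]
        refine mul_inv_eq_iff_eq_mul.1 ?_
        set d := ⁅u, x⁆ with hddef
        have h1 : x * u * x⁻¹ = d⁻¹ * u := by rw [hddef, commutatorElement_def]; group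
        have h2 : x * c * x⁻¹ = c := by rw [hAc hx hc, mul_inv_cancel_right]
        have h3 : c * d⁻¹ = d⁻¹ * c := mem_centralizer_iff.1 (inv_mem hd.2) c hc
        calc x * ⁅u, c⁆ * x⁻¹ = ⁅x * u * x⁻¹, x * c * x⁻¹⁆ := by simp only [commutatorElement_def]; group
          _ = ⁅d⁻¹ * u, c⁆ := by rw [h1, h2]
          _ = d⁻¹ * ⁅u, c⁆ * (c * d * c⁻¹) := by simp only [commutatorElement_def]; group
          _ = ⁅u, c⁆ * (d⁻¹ * (c * d * c⁻¹)) := by rw [hWc (inv_mem hd.1) (hcomW c hc), mul_assoc]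
          _ = ⁅u, c⁆ := by
            rw [← mul_assoc d⁻¹, ← mul_assoc d⁻¹, ← h3, mul_assoc c d⁻¹ d, inv_mul_cancel, mul_one,
              mul_inv_cancel, mul_one]
      let f : ↥A × ↥C → ↥(A ⊓ centralizer (replM A W {u} : Set G)) × ↥(replM A W {u}) := fun ac =>
        (⟨_, hmem ac.1⟩, ⟨⁅u, (ac.1 : G)⁆ * ac.2,
          mul_mem (mem_sup_left (subset_closure ⟨u, rfl, _, ac.1.2, rfl⟩)) (mem_sup_right ac.2.2)⟩)
      have hf : Function.Injective f := by
        intro s t h
        have h1 : (r s.1 : G)⁻¹ * s.1 = (r t.1 : G)⁻¹ * t.1 := congrArg (fun z => (z.1 : G)) h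
        have h2 : ⁅u, (s.1 : G)⁆ * (s.2 : G) = ⁅u, (t.1 : G)⁆ * t.2 := congrArg (fun z => (z.2 : G)) h
        have hg : g s.1 = g t.1 := by
          refine QuotientGroup.eq.2 ?_
          rw [show ⁅u, (s.1 : G)⁆⁻¹ * ⁅u, (t.1 : G)⁆ = (s.2 : G) * (t.2 : G)⁻¹ by
            rw [inv_mul_eq_iff_eq_mul, ← mul_assoc, h2, mul_inv_cancel_right]]
          exact mul_mem s.2.2 (inv_mem t.2.2)
        have hrr : r s.1 = r t.1 := congrArg (Function.invFun g) hg
        rw [hrr] at h1
        have ha : s.1 = t.1 := Subtype.ext (mul_left_cancel h1)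
        rw [ha] at h2
        exact Prod.ext ha (Subtype.ext (mul_left_cancel h2))
      have := Nat.card_le_card_of_injective f hf
      rwa [Nat.card_prod, Nat.card_prod] at this
    set B1 := A ⊓ centralizer (replM A W (s : Set G) : Set G)
    set B2 := A ⊓ centralizer (replM A W {u} : Set G)
    set M1 := replM A W (s : Set G)
    set M2 := replM A W {u}
    have hB1 : Nat.card ↥B1 * Nat.card ↥M1 ≤ Nat.card ↥A * Nat.card ↥C :=
      (Nat.mul_le_mul_left _ (card_le_of_le (le_inf (replM_le hAW hsW)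
        (le_centralizer_iff.1 inf_le_right)))).trans (offender_max hA hW inf_le_left)
    have hB2 : Nat.card ↥B2 * Nat.card ↥M2 ≤ Nat.card ↥A * Nat.card ↥C :=
      (Nat.mul_le_mul_left _ (card_le_of_le (le_inf (replM_le hAW (Set.singleton_subset_iff.2 huW))
        (le_centralizer_iff.1 inf_le_right)))).trans (offender_max hA hW inf_le_left)
    have hi : M1 ⊓ M2 ≤ W ⊓ centralizer ((B1 ⊔ B2 : Subgroup G) : Set G) :=
      le_inf (inf_le_left.trans (replM_le hAW hsW)) (le_centralizer_iff.1 (sup_le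
        (inf_le_right.trans (centralizer_le inf_le_left)) (inf_le_right.trans (centralizer_le inf_le_right))))
    have h3 : Nat.card ↥(B1 ⊔ B2) * Nat.card ↥(M1 ⊓ M2) ≤ Nat.card ↥A * Nat.card ↥C :=
      (Nat.mul_le_mul_left _ (card_le_of_le hi)).trans (offender_max hA hW (sup_le inf_le_left inf_le_left))
    have hpos : 0 < Nat.card ↥A * Nat.card ↥C := Nat.mul_pos Nat.card_pos Nat.card_pos
    have h4 : (Nat.card ↥A * Nat.card ↥C) * (Nat.card ↥A * Nat.card ↥C) ≤
        (Nat.card ↥(B1 ⊓ B2) * Nat.card ↥(M1 ⊔ M2)) * (Nat.card ↥(B1 ⊔ B2) * Nat.card ↥(M1 ⊓ M2)) :=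
      calc (Nat.card ↥A * Nat.card ↥C) * (Nat.card ↥A * Nat.card ↥C)
          ≤ (Nat.card ↥B1 * Nat.card ↥M1) * (Nat.card ↥B2 * Nat.card ↥M2) :=
            Nat.mul_le_mul (ih hsW) hone
        _ = (Nat.card ↥B1 * Nat.card ↥B2) * (Nat.card ↥M1 * Nat.card ↥M2) := by ring
        _ ≤ (Nat.card ↥(B1 ⊔ B2) * Nat.card ↥(B1 ⊓ B2)) * (Nat.card ↥(M1 ⊔ M2) * Nat.card ↥(M1 ⊓ M2)) :=
            Nat.mul_le_mul (CfsgLib.PGroup.card_mul_card_le_sup_inf B1 B2)
              (CfsgLib.PGroup.card_mul_card_le_sup_inf M1 M2)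
        _ = _ := by ring
    have hMM : M1 ⊔ M2 = replM A W (↑(insert u s) : Set G) := by
      rw [show M1 = replM A W (s : Set G) from rfl, show M2 = replM A W {u} from rfl, replM, replM, replM,
        sup_sup_sup_comm, sup_idem, ← Subgroup.closure_union]
      congr 2
      ext x
      simp only [Set.mem_union, Set.mem_setOf_eq, Finset.coe_insert, Set.mem_insert_iff, Set.mem_singleton_iff]
      constructor
      · rintro (⟨v, hv, h⟩ | ⟨v, hv, h⟩)
        exacts [⟨v, Or.inr hv, h⟩, ⟨v, Or.inl hv, h⟩]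
      · rintro ⟨v, hv | hv, h⟩
        exacts [Or.inr ⟨v, hv, h⟩, Or.inl ⟨v, hv, h⟩]
    refine (Nat.le_of_mul_le_mul_right (h4.trans (Nat.mul_le_mul_left _ h3)) hpos).trans ?_
    rw [hMM]
    refine Nat.mul_le_mul_right _ (card_le_of_le (le_inf (inf_le_left.trans inf_le_left) ?_))
    rw [← hMM, le_centralizer_iff]
    exact sup_le (le_centralizer_iff.1 (inf_le_left.trans inf_le_right))
      (le_centralizer_iff.1 (inf_le_right.trans inf_le_right))

/-- The replacement: `C_W(C_A([X, A])) ≤ [X, A] C_W(A)`. -/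
theorem centralizer_replacement (hA : A ∈ maxElementaryAbelianSubgroups p G) (hW : IsElementaryAbelian p W)
    (hAW : A ≤ normalizer (W : Set G)) {X : Subgroup G} (hX : X ≤ W) :
    W ⊓ centralizer ((A ⊓ centralizer ((⁅X, A⁆ : Subgroup G) : Set G) : Subgroup G) : Set G) ≤
      ⁅X, A⁆ ⊔ (W ⊓ centralizer (A : Set G)) := by
  classical
  have h := replacement_card hA hW hAW (Set.toFinite (X : Set G)).toFinset (by simpa using hX)
  rw [Set.Finite.coe_toFinset] at h
  have hM : replM A W (X : Set G) = ⁅X, A⁆ ⊔ (W ⊓ centralizer (A : Set G)) := by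
    rw [replM, Subgroup.commutator_def]; rfl
  rw [← hM]
  set B := A ⊓ centralizer (replM A W (X : Set G) : Set G) with hB
  have hBle : B ≤ A ⊓ centralizer ((⁅X, A⁆ : Subgroup G) : Set G) :=
    le_inf inf_le_left (inf_le_right.trans (centralizer_le (SetLike.coe_subset_coe.2 (le_sup_left.trans_eq hM.symm))))
  refine (inf_le_inf_left W (centralizer_le hBle)).trans ?_
  have h2 : replM A W (X : Set G) ≤ W ⊓ centralizer (B : Set G) :=
    le_inf (replM_le hAW hX) (le_centralizer_iff.1 inf_le_right)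
  exact (eq_of_le_of_card_ge h2 (Nat.le_of_mul_le_mul_left
    ((offender_max hA hW inf_le_left).trans h) Nat.card_pos)).ge

end CfsgLib.LocalEven.BlockBaumann
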