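import Mathlib
import Cfsg.Agent.Lib.LocalEven.BlockBaumann.Map
import Cfsg.Agent.Lib.LocalEven.BlockBaumann.Replace
import Cfsg.Agent.Lib.LocalEven.BlockBaumann.Basics

/-!
Largest elementary abelian subgroups normalise subnormal blocks.
-/

set_option autoImplicit false

namespace CfsgLib.LocalEven.BlockBaumann

open Subgroup Cfsg
open CfsgLib.LocalEven.SubBlock
open scoped commutatorElement

variable {G : Type*} [Group G] [Finite G] {p : ℕ} [Fact p.Prime] {T : Sylow p G} {E A : Subgroup G}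

/-- A conjugate different from `E` centralises `E`. -/
theorem conj_le_centralizer (hG : centralizer (pCore p G : Set G) ≤ pCore p G)
    (hE : IsBaumannBlock p (T : Subgroup G) E) (hEs : E.IsSubnormal) {g : G}
    (hg : g ∉ normalizer (E : Set G)) {x : G} (hx : x ∈ E) : g * x * g⁻¹ ∈ centralizer (E : Set G) := by
  rcases blocks_eq_or_commute hG hE hEs (isBlock_conj hE g)
      (hEs.map (f := (MulAut.conj g).toMonoidHom) (MulAut.conj g).surjective) with h | h
  · exact absurd (mem_normalizer_iff_map_conj_eq.2 h.symm) hg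
  · rw [commutator_comm, commutator_eq_bot_iff_le_centralizer] at h
    exact h ⟨x, hx, rfl⟩

theorem maxEA_le_normalizer (hG : centralizer (pCore p G : Set G) ≤ pCore p G)
    (hE : IsBaumannBlock p (T : Subgroup G) E) (hEs : E.IsSubnormal)
    (hA : A ∈ maxElementaryAbelianSubgroups p G) : A ≤ normalizer (E : Set G) := by
  classical
  haveI := bA_normal (p := p) (G := G)
  intro a₀ ha₀
  by_contra hna
  have hWEA : bWE p E ≤ bA p G := bWE_le_bA hG hE
  have hWEE : bWE p E ≤ E := (bWE_le E).trans (bW_le E)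
  have hmove : ∀ g : G, g ∉ normalizer (E : Set G) → ∀ w ∈ bWE p E, g * w * g⁻¹ ∈ centralizer (E : Set G) :=
    fun g hg w hw => conj_le_centralizer hG hE hEs hg (hWEE hw)
  set S : Set G := {x | ∃ a ∈ A, ∃ w ∈ bWE p E, a * w * a⁻¹ = x} with hS
  set W := closure S with hWdef
  have hSW : ∀ a ∈ A, ∀ w ∈ bWE p E, a * w * a⁻¹ ∈ W := fun a ha w hw =>
    subset_closure ⟨a, ha, w, hw, rfl⟩
  have hXW : bWE p E ≤ W := fun w hw => by simpa using hSW 1 (one_mem A) w hw
  have hW : IsElementaryAbelian p W := CfsgLib.PGroup.elemAb_mono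
    (CfsgLib.LocalEven.Oz.elemAb (p := p) (pCore p G)) ((closure_le _).2 (by
      rintro _ ⟨a, -, w, hw, rfl⟩
      exact (inferInstance : (bA p G).Normal).conj_mem w (hWEA hw) a))
  have hAW : A ≤ normalizer (W : Set G) := fun b hb => CfsgLib.LocalEven.mem_normalizer_of_conj_le (by
    rw [hWdef, MonoidHom.map_closure, closure_le]
    rintro _ ⟨_, ⟨a, ha, w, hw, rfl⟩, rfl⟩
    show b * (a * w * a⁻¹) * b⁻¹ ∈ W
    rw [show b * (a * w * a⁻¹) * b⁻¹ = b * a * w * (b * a)⁻¹ by group]
    exact hSW _ (mul_mem hb ha) w hw)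
  have hAc : ∀ {a b : G}, a ∈ A → b ∈ A → a * b = b * a := fun ha hb => CfsgLib.PGroup.elemAb_comm hA.1 ha hb
  -- centralising `W_E` gives centralising `W`
  have hlift : ∀ B : Subgroup G, B ≤ A → (∀ x ∈ B, x ∈ centralizer (bWE p E : Set G)) →
      W ≤ centralizer (B : Set G) := by
    intro B hB h
    rw [hWdef, closure_le]
    rintro _ ⟨a, ha, w, hw, rfl⟩
    refine mem_centralizer_iff.2 fun x hx => ?_
    have h1 := mem_centralizer_iff.1 (h x hx) w hw
    calc x * (a * w * a⁻¹) = (x * a) * w * a⁻¹ := by group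
      _ = (a * x) * w * a⁻¹ := by rw [hAc (hB hx) ha]
      _ = a * (x * w) * a⁻¹ := by group
      _ = a * (w * x) * a⁻¹ := by rw [h1]
      _ = a * w * (x * a⁻¹) := by group
      _ = a * w * (a⁻¹ * x) := by rw [hAc (hB hx) (inv_mem ha)]
      _ = a * w * a⁻¹ * x := by group
  set A2 := A ⊓ centralizer ((⁅bWE p E, A⁆ : Subgroup G) : Set G) with hA2
  have hfix : ∀ x ∈ A2, ∀ w ∈ bWE p E, ∀ a ∈ A, x * ⁅w, a⁆ * x⁻¹ = ⁅w, a⁆ := fun x hx w hw a ha =>
    mul_inv_eq_iff_eq_mul.2 (mem_centralizer_iff.1 (Subgroup.mem_inf.1 hx).2 _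
      (commutator_mem_commutator hw ha)).symm
  have hN : A2 ≤ normalizer (E : Set G) := by
    intro x hx
    by_contra hxn
    have hxA : x ∈ A := (Subgroup.mem_inf.1 hx).1
    have hswap : ∀ a ∈ A, a ∉ normalizer (E : Set G) → x * a ∈ normalizer (E : Set G) := by
      intro a ha han
      by_contra hxan
      refine bWE_not_le hE fun w hw => Subgroup.mem_inf.2 ⟨bWE_le E hw, ?_⟩
      have e1 := hfix x hx w hw a ha
      have e2 : x * ⁅w, a⁆ * x⁻¹ = (x * w * x⁻¹) * ((x * a) * w⁻¹ * (x * a)⁻¹) := by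
        rw [commutatorElement_def]; group
      have e3 : ⁅w, a⁆ = w * (a * w⁻¹ * a⁻¹) := by rw [commutatorElement_def]; group
      rw [e2, e3] at e1
      have h1 := mul_mem (hmove x hxn w hw) (hmove _ hxan _ (inv_mem hw))
      rw [e1] at h1
      have h2 := mul_mem h1 (inv_mem (hmove a han _ (inv_mem hw)))
      rwa [mul_inv_cancel_right] at h2
    set B := A ⊓ normalizer (E : Set G) with hB
    have hBW : W ≤ centralizer (B : Set G) := by
      refine hlift B inf_le_left fun b hb => centralizes_of_modZ hE hb.2 fun w hw => ?_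
      have hm : ⁅w, b⁆ ∈ bWE p E := by
        rw [commutatorElement_def, mul_assoc w b w⁻¹, mul_assoc]
        exact mul_mem hw ((mem_normalizer_iff.1 (normalizer_le_bWE E hb.2) _).1 (inv_mem hw))
      have h1 := hmove x hxn _ hm
      rw [hfix x hx w hw b hb.1] at h1
      rw [← commutatorElement_inv]
      exact inv_mem h1
    have hcard : Nat.card ↥A ≤ 2 * Nat.card ↥B := by
      let f : ↥A → Bool × ↥B := fun a =>
        if h : (a : G) ∈ normalizer (E : Set G) then (true, ⟨a, a.2, h⟩)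
        else (false, ⟨x * a, mul_mem hxA a.2, hswap a a.2 h⟩)
      have hf : Function.Injective f := by
        intro a b hab
        by_cases h1 : (a : G) ∈ normalizer (E : Set G) <;> by_cases h2 : (b : G) ∈ normalizer (E : Set G) <;>
          simp only [f, dif_pos, dif_neg, h1, h2, not_false_eq_true, Prod.mk.injEq, Subtype.mk.injEq,
            reduceCtorEq, false_and, true_and, mul_right_inj] at hab
        exacts [Subtype.ext (congrArg (fun z : ↥B => (z : G)) hab),
          Subtype.ext (mul_left_cancel (congrArg (fun z : ↥B => (z : G)) hab))]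
      have := Nat.card_le_card_of_injective f hf
      simpa [Nat.card_prod, Nat.card_eq_fintype_card (α := Bool)] using this
    set C := W ⊓ centralizer (A : Set G) with hC
    have hcW : Nat.card ↥B * Nat.card ↥W ≤ Nat.card ↥A * Nat.card ↥C :=
      (Nat.mul_le_mul_left _ (card_le_of_le (le_inf le_rfl hBW))).trans (offender_max hA hW inf_le_left)
    have hCE : ∀ c ∈ C, c ∈ bWE p E → c ∈ centralizer (E : Set G) := fun c hc hcw => by
      have h1 := hmove a₀ hna c hcw
      rwa [mem_centralizer_iff.1 (Subgroup.mem_inf.1 hc).2 a₀ ha₀, mul_inv_cancel_right] at h1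
    obtain ⟨w₁, hw₁, w₂, hw₂, h1, h2, h12⟩ := exists_two hE
    let v : Fin 3 → ↥W := ![1, ⟨w₁, hXW hw₁⟩, ⟨w₂, hXW hw₂⟩]
    have hv : ∀ i j, (v i : G)⁻¹ * v j ∈ C → i = j := by
      intro i j hij
      fin_cases i <;> fin_cases j <;>
        simp only [v, Fin.zero_eta, Fin.mk_one, Matrix.cons_val_zero, Matrix.cons_val_one, Fin.reduceFinMk,
          Matrix.cons_val, Subgroup.coe_one, inv_one, one_mul, mul_one] at hij ⊢ <;> first | rfl | skip
      · exact absurd (hCE _ hij hw₁) h1
      · exact absurd (hCE _ hij hw₂) h2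
      · exact absurd (hCE _ (by simpa using inv_mem hij) hw₁) h1
      · exact absurd (hCE _ hij (mul_mem (inv_mem hw₁) hw₂)) h12
      · exact absurd (hCE _ (by simpa using inv_mem hij) hw₂) h2
      · exact absurd (hCE _ (by simpa [_root_.mul_inv_rev] using inv_mem hij) (mul_mem (inv_mem hw₁) hw₂)) h12
    have h3 : 3 * Nat.card ↥C ≤ Nat.card ↥W := by
      let f : Fin 3 × ↥C → ↥W := fun ic => v ic.1 * ⟨ic.2, (Subgroup.mem_inf.1 ic.2.2).1⟩
      have hf : Function.Injective f := by
        rintro ⟨i, c⟩ ⟨j, d⟩ h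
        have h' : (v i : G) * c = (v j : G) * d := congrArg Subtype.val h
        have : i = j := hv i j (by
          rw [show (v i : G)⁻¹ * v j = (c : G) * (d : G)⁻¹ by
            rw [inv_mul_eq_iff_eq_mul, ← mul_assoc, h', mul_inv_cancel_right]]
          exact mul_mem c.2 (inv_mem d.2))
        subst this
        exact Prod.ext rfl (Subtype.ext (mul_left_cancel h'))
      have := Nat.card_le_card_of_injective f hf
      simpa [Nat.card_prod, Nat.card_eq_fintype_card (α := Fin 3)] using this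
    have hB0 : 0 < Nat.card ↥B := Nat.card_pos
    have hC0 : 0 < Nat.card ↥C := Nat.card_pos
    nlinarith [Nat.mul_le_mul_left (Nat.card ↥B) h3, Nat.mul_le_mul_right (Nat.card ↥C) hcard, hcW]
  -- `A2` centralises `W`
  have hcent : W ≤ centralizer (A2 : Set G) := by
    refine hlift A2 inf_le_left fun x hx => centralizes_of_modZ hE (hN hx) fun w hw => ?_
    have e1 := hfix x hx w hw a₀ ha₀
    have hc1 := hmove a₀ hna _ (inv_mem hw)
    have hxC := (mem_normalizer_iff.1 (CfsgLib.LocalEven.Oz.mem_normalizer_centralizer (hN hx)) _).1 hc1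
    have hwC : w ∈ normalizer (centralizer (E : Set G) : Set G) :=
      CfsgLib.LocalEven.Oz.mem_normalizer_centralizer (le_normalizer (hWEE hw))
    have e2 : ⁅x, w⁆ = w * ((a₀ * w⁻¹ * a₀⁻¹) * (x * (a₀ * w⁻¹ * a₀⁻¹) * x⁻¹)⁻¹) * w⁻¹ := by
      calc ⁅x, w⁆ = (x * ⁅w, a₀⁆ * x⁻¹) * (x * (a₀ * w⁻¹ * a₀⁻¹) * x⁻¹)⁻¹ * w⁻¹ := by
            simp only [commutatorElement_def]; group
        _ = _ := by rw [e1, commutatorElement_def]; group
    rw [e2]
    exact (mem_normalizer_iff.1 hwC _).1 (mul_mem hc1 (inv_mem hxC))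
  -- replacement
  have h0 : W ≤ ⁅W, A⁆ ⊔ (W ⊓ centralizer (A : Set G)) :=
    (le_inf le_rfl hcent).trans ((centralizer_replacement hA hW hAW hXW).trans
      (sup_le_sup_right (commutator_mono hXW le_rfl) _))
  have hWC : W ≤ W ⊓ centralizer (A : Set G) :=
    le_of_le_commutator_sup (CfsgLib.PGroup.elemAb_isPGroup hW) (CfsgLib.Transfer.maxEA_isPGroup hA) hAW
      (fun w hw => centralizer_le_normalizer _ (mem_centralizer_iff.2 fun c hc =>
        CfsgLib.PGroup.elemAb_comm hW (Subgroup.mem_inf.1 hc).1 hw))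
      (fun a ha => centralizer_le_normalizer _ (mem_centralizer_iff.2 fun c hc =>
        (mem_centralizer_iff.1 (Subgroup.mem_inf.1 hc).2 a ha).symm)) h0
  refine bWE_not_le hE fun w hw => Subgroup.mem_inf.2 ⟨bWE_le E hw, ?_⟩
  have h1 := hmove a₀ hna w hw
  rwa [mem_centralizer_iff.1 (Subgroup.mem_inf.1 (hWC (hXW hw))).2 a₀ ha₀, mul_inv_cancel_right] at h1

theorem thompson_le_normalizer (hG : centralizer (pCore p G : Set G) ≤ pCore p G)
    (hE : IsBaumannBlock p (T : Subgroup G) E) (hEs : E.IsSubnormal) (S : Sylow p G) :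
    thompsonSubgroupOf p (S : Subgroup G) ≤ normalizer (E : Set G) := by
  obtain ⟨A, hA, hAS⟩ := CfsgLib.Transfer.exists_maxEA_le_sylow S
  refine map_le_iff_le_comap.2 (sSup_le fun B hB => map_le_iff_le_comap.1 ?_)
  exact maxEA_le_normalizer hG hE hEs (CfsgLib.Transfer.maxEA_map_subtype hA hAS hB)

end CfsgLib.LocalEven.BlockBaumann
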