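import Mathlib
import Cfsg.Agent.Lib.LocalEven.BlockBaumann.JFix
import Cfsg.Agent.Lib.LocalEven.SubnormalSylow

/-!
Fixed points in `W_E` outside `C(E)`.
-/

set_option autoImplicit false

namespace CfsgLib.LocalEven.BlockBaumann

open Subgroup Cfsg
open CfsgLib.LocalEven.SubBlock
open scoped Pointwise commutatorElement IsMulCommutative

variable {G : Type*} [Group G] [Finite G] {p : ℕ} [Fact p.Prime] {T : Sylow p G} {E : Subgroup G}

/-- Averaging a fixed point over `E/S`. -/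
theorem exists_fixed_of_average (hE : IsBaumannBlock p (T : Subgroup G) E)
    {S P : Subgroup G} (hSE : S ≤ E) (hidx : ¬ p ∣ S.relIndex E) (hPE : P ≤ normalizer (E : Set G))
    (hPS : P ≤ normalizer (S : Set G)) {z : G} (hz : z ∈ bA p G) (hzS : ∀ s ∈ S, s * z = z * s)
    (hzE : z ∉ centralizer (E : Set G)) (hzP : ∀ r ∈ P, ⁅z, r⁆ ∈ centralizer (E : Set G)) :
    ∃ x ∈ bWE p E, x ∈ centralizer (P : Set G) ∧ x ∉ centralizer (E : Set G) := by
  classical
  haveI hAn := bA_normal (p := p) (G := G)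
  haveI : IsMulCommutative ↥(bA p G) := (CfsgLib.LocalEven.Oz.elemAb (p := p) (pCore p G)).1
  have hW : ∀ h ∈ E, ⁅h, z⁆ ∈ bWE p E := fun h hh => by
    rw [← commutatorElement_inv]
    exact inv_mem (commutator_bA_le hE (commutator_mem_commutator hz hh))
  have hA : ∀ h : G, ⁅h, z⁆ ∈ bA p G := fun h => by
    rw [commutatorElement_def]; exact mul_mem (hAn.conj_mem z hz h) (inv_mem hz)
  let S' := S.subgroupOf E
  haveI : Fintype (↥E ⧸ S') := Fintype.ofFinite _
  let f : ↥E ⧸ S' → ↥(bA p G) := Quotient.lift (fun h : ↥E => (⟨⁅(h : G), z⁆, hA h⟩ : ↥(bA p G)))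
    (fun a b hab => by
      refine Subtype.ext ?_
      have hab' : a⁻¹ * b ∈ S' := QuotientGroup.leftRel_apply.1 hab
      have hs : (a : G)⁻¹ * b ∈ S := hab'
      show ⁅(a : G), z⁆ = ⁅(b : G), z⁆
      have h1 := hzS _ hs
      rw [commutatorElement_def, commutatorElement_def]
      calc (a : G) * z * (a : G)⁻¹ * z⁻¹
          = (a : G) * (z * ((a : G)⁻¹ * b)) * (b : G)⁻¹ * z⁻¹ := by group
        _ = (a : G) * (((a : G)⁻¹ * b) * z) * (b : G)⁻¹ * z⁻¹ := by rw [h1]
        _ = (b : G) * z * (b : G)⁻¹ * z⁻¹ := by group)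
  let X : ↥(bA p G) := ∏ q, f q
  have hXW : (X : G) ∈ bWE p E := by
    suffices X ∈ (bWE p E).subgroupOf (bA p G) from this
    refine prod_mem fun q _ => ?_
    induction q using QuotientGroup.induction_on with
    | H h => exact hW _ h.2
  refine ⟨X, hXW, ?_, ?_⟩
  · -- fixed by `P`
    refine mem_centralizer_iff.2 fun r hr => ?_
    have hrn : ∀ h : ↥E, r * (h : G) * r⁻¹ ∈ E := fun h => (mem_normalizer_iff.1 (hPE hr) _).1 h.2
    let σ : ↥E ⧸ S' → ↥E ⧸ S' := Quotient.map' (fun h => ⟨r * (h : G) * r⁻¹, hrn h⟩) (fun a b hab => by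
      rw [QuotientGroup.leftRel_apply] at hab ⊢
      show (r * (a : G) * r⁻¹)⁻¹ * (r * (b : G) * r⁻¹) ∈ S
      rw [show (r * (a : G) * r⁻¹)⁻¹ * (r * (b : G) * r⁻¹) = r * ((a : G)⁻¹ * b) * r⁻¹ by group]
      exact (mem_normalizer_iff.1 (hPS hr) _).1 hab)
    have hσ : Function.Surjective σ := by
      intro q
      induction q using QuotientGroup.induction_on with
      | H h =>
        refine ⟨QuotientGroup.mk (s := S') ⟨r⁻¹ * (h : G) * r, (mem_normalizer_iff''.1 (hPE hr) _).1 h.2⟩, ?_⟩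
        show QuotientGroup.mk _ = QuotientGroup.mk h
        congr 1
        exact Subtype.ext (by group)
    let φ : ↥(bA p G) →* ↥(bA p G) := (MulAut.conjNormal (H := bA p G) r).toMonoidHom
    have hφ : ∀ q, φ (f q) = f (σ q) := by
      intro q
      induction q using QuotientGroup.induction_on with
      | H h =>
        refine Subtype.ext ?_
        show r * ⁅(h : G), z⁆ * r⁻¹ = ⁅r * (h : G) * r⁻¹, z⁆
        have hd : r * z * r⁻¹ * z⁻¹ ∈ centralizer (E : Set G) := by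
          have h1 := inv_mem (hzP r hr)
          rwa [commutatorElement_inv, commutatorElement_def] at h1
        have hdA : r * z * r⁻¹ * z⁻¹ ∈ bA p G := mul_mem (hAn.conj_mem z hz r) (inv_mem hz)
        set d := r * z * r⁻¹ * z⁻¹ with hdd
        have hc : (r * (h : G) * r⁻¹) * d = d * (r * (h : G) * r⁻¹) := mem_centralizer_iff.1 hd _ (hrn h)
        have hc2 : d * ⁅r * (h : G) * r⁻¹, z⁆ = ⁅r * (h : G) * r⁻¹, z⁆ * d := bA_comm d hdA _ (hA _)
        calc r * ⁅(h : G), z⁆ * r⁻¹ = ⁅r * (h : G) * r⁻¹, d * z⁆ := by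
              rw [hdd]; simp only [commutatorElement_def]; group
          _ = ((r * (h : G) * r⁻¹) * d) * z * (r * (h : G) * r⁻¹)⁻¹ * z⁻¹ * d⁻¹ := by
              simp only [commutatorElement_def]; group
          _ = (d * (r * (h : G) * r⁻¹)) * z * (r * (h : G) * r⁻¹)⁻¹ * z⁻¹ * d⁻¹ := by rw [hc]
          _ = d * ⁅r * (h : G) * r⁻¹, z⁆ * d⁻¹ := by simp only [commutatorElement_def]; group
          _ = ⁅r * (h : G) * r⁻¹, z⁆ := by rw [hc2, mul_inv_cancel_right]
    have hX : φ X = X := by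
      rw [map_prod]
      exact Fintype.prod_bijective σ ((Finite.surjective_iff_bijective).1 hσ) _ _ hφ
    exact mul_inv_eq_iff_eq_mul.1 (congrArg Subtype.val hX)
  · intro hXE
    refine hzE (mem_centralizer_iff.2 fun e he => ?_)
    let φ : ↥(bA p G) →* ↥(bA p G) := (MulAut.conjNormal (H := bA p G) e).toMonoidHom
    let ec : ↥(bA p G) := ⟨⁅e, z⁆, hA e⟩
    have hφ : ∀ q, φ (f q) = f ((⟨e, he⟩ : ↥E) • q) * ec⁻¹ := by
      intro q
      induction q using QuotientGroup.induction_on with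
      | H h =>
        refine Subtype.ext ?_
        show e * ⁅(h : G), z⁆ * e⁻¹ = ⁅e * (h : G), z⁆ * ⁅e, z⁆⁻¹
        simp only [commutatorElement_def]; group
    have hX : φ X = X := by
      refine Subtype.ext ?_
      show e * (X : G) * e⁻¹ = X
      rw [mem_centralizer_iff.1 hXE e he, mul_inv_cancel_right]
    rw [map_prod, Finset.prod_congr rfl fun q _ => hφ q, Finset.prod_mul_distrib, Finset.prod_const,
      show ∏ q, f ((⟨e, he⟩ : ↥E) • q) = ∏ q, f q from Equiv.prod_comp (MulAction.toPerm (⟨e, he⟩ : ↥E)) f,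
      mul_eq_left, Finset.card_univ,
      ← Nat.card_eq_fintype_card, inv_pow, inv_eq_one] at hX
    have hk : ⁅e, z⁆ ^ S.relIndex E = 1 := congrArg Subtype.val hX
    have hp : ⁅e, z⁆ ^ p = 1 := (CfsgLib.LocalEven.Oz.elemAb (p := p) (pCore p G)).2 _ (hA e)
    have hcop : Nat.Coprime p (S.relIndex E) := (Fact.out : p.Prime).coprime_iff_not_dvd.2 hidx
    exact commutatorElement_eq_one_iff_mul_comm.1 (orderOf_eq_one_iff.1
      (Nat.eq_one_of_dvd_coprimes hcop (orderOf_dvd_of_pow_eq_one hp) (orderOf_dvd_of_pow_eq_one hk)))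

/-- `Ω₁(Z(T)) ≤ Ω₁(Z(O_p(G)))`. -/
theorem omegaCentre_le_bA (hG : centralizer (pCore p G : Set G) ≤ pCore p G) (S : Sylow p G) :
    omegaOneCenter p (S : Subgroup G) ≤ bA p G := by
  intro z hz
  obtain ⟨-, hc, hp⟩ := CfsgLib.LocalEven.Oz.mem_iff.1 hz
  have hle : pCore p G ≤ (S : Subgroup G) := by
    haveI := CfsgLib.Cores.pCore_characteristic (G := G) p
    exact IsPGroup.le_sylow_of_normal (CfsgLib.Cores.isPGroup_pCore p) S
  exact CfsgLib.LocalEven.Oz.mem_iff.2
    ⟨hG (mem_centralizer_iff.2 fun v hv => hc v (hle hv)), fun v hv => hc v (hle hv), hp⟩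

theorem exists_fixed (hG : centralizer (pCore p G : Set G) ≤ pCore p G)
    (hE : IsBaumannBlock p (T : Subgroup G) E) (hEs : E.IsSubnormal) {P₀ : Subgroup G}
    (hP₀ : IsPGroup p ↥P₀) (hP₀E : P₀ ≤ normalizer (E : Set G)) :
    ∃ x ∈ bWE p E, x ∈ centralizer (P₀ : Set G) ∧ x ∉ centralizer (E : Set G) := by
  classical
  haveI hAn := bA_normal (p := p) (G := G)
  set H := normalizer (E : Set G) with hH
  obtain ⟨Q, hQ⟩ := (hP₀.comap_subtype (K := H)).exists_le_sylow
  set P := (Q : Subgroup ↥H).map H.subtype with hP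
  have hP0P : P₀ ≤ P := fun x hx => ⟨⟨x, hP₀E hx⟩, hQ hx, rfl⟩
  have hPp : IsPGroup p ↥P := Q.2.map _
  have hPH : P ≤ H := map_subtype_le _
  haveI : (E.subgroupOf H).Normal := normal_subgroupOf_of_le_normalizer le_rfl
  set S := P ⊓ E with hS
  have hidx : ¬ p ∣ S.relIndex E := by
    have h := not_dvd_relIndex_inf_of_isSubnormal Q (Subgroup.Normal.isSubnormal (H := E.subgroupOf H) inferInstance)
    rw [← relIndex_map_map_of_injective _ _ H.subtype_injective, Subgroup.map_inf _ _ _ H.subtype_injective,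
      map_subgroupOf_eq_of_le le_normalizer] at h
    exact h
  have hSp : IsPGroup p ↥S := hPp.to_le inf_le_left
  obtain ⟨S₁, hS₁⟩ := exists_sylow_eq_inf_of_isSubnormal T hEs
  let S₂ : Sylow p ↥E := IsPGroup.toSylow (hSp.comap_subtype (K := E)) hidx
  obtain ⟨e, he⟩ := MulAction.exists_smul_eq ↥E S₁ S₂
  obtain ⟨z₀, hz₀, hz₀E⟩ : ∃ z ∈ omegaOneCenter p (T : Subgroup G), z ∉ centralizer (E : Set G) := by
    by_contra hc
    push Not at hc
    refine hE.2.2.2.1 ?_
    rw [commutator_comm, commutator_eq_bot_iff_le_centralizer]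
    exact hc
  have hen : (e : G) ∈ normalizer (centralizer (E : Set G) : Set G) :=
    CfsgLib.LocalEven.Oz.mem_normalizer_centralizer (le_normalizer e.2)
  have hzS : ∀ s ∈ S, s * ((e : G) * z₀ * (e : G)⁻¹) = (e : G) * z₀ * (e : G)⁻¹ * s := by
    intro s hs
    have h1 : (⟨s, hs.2⟩ : ↥E) ∈ ((e • S₁ : Sylow p ↥E) : Subgroup ↥E) := by rw [he]; exact hs
    rw [Sylow.coe_subgroup_smul, CfsgLib.Solvable.conj_smul_eq_map, hS₁] at h1
    obtain ⟨t, ht, hts⟩ := h1
    have h2 : (e : G) * t * (e : G)⁻¹ = s := congrArg Subtype.val hts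
    have h3 : (t : G) * z₀ = z₀ * (t : G) := (CfsgLib.LocalEven.Oz.mem_iff.1 hz₀).2.1 _ ht
    calc s * ((e : G) * z₀ * (e : G)⁻¹) = (e : G) * ((t : G) * z₀) * (e : G)⁻¹ := by rw [← h2]; group
      _ = (e : G) * (z₀ * (t : G)) * (e : G)⁻¹ := by rw [h3]
      _ = _ := by rw [← h2]; group
  set M := bA p G ⊓ centralizer (S : Set G) with hM
  have hzM : (e : G) * z₀ * (e : G)⁻¹ ∈ M :=
    Subgroup.mem_inf.2 ⟨hAn.conj_mem _ (omegaCentre_le_bA hG T hz₀) _, mem_centralizer_iff.2 hzS⟩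
  have hPS : P ≤ normalizer (S : Set G) := (le_inf le_normalizer hPH).trans (Baumann.normalizer_inf_le P E)
  have hPM : P ≤ normalizer (M : Set G) := fun r hr => Baumann.normalizer_inf_le _ _
    ⟨mem_normalizer_normal r, CfsgLib.LocalEven.Oz.mem_normalizer_centralizer (hPS hr)⟩
  have hPN : P ≤ normalizer ((M ⊓ centralizer (E : Set G) : Subgroup G) : Set G) := fun r hr =>
    Baumann.normalizer_inf_le _ _ ⟨hPM hr, CfsgLib.LocalEven.Oz.mem_normalizer_centralizer (hPH hr)⟩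
  set N := M ⊓ centralizer (E : Set G) with hN
  have hMc : ∀ {a b : G}, a ∈ M → b ∈ M → a * b = b * a := fun ha hb => bA_comm _ ha.1 _ hb.1
  obtain ⟨Y, ⟨hNY, hYM, hPY, hYE⟩, hmin⟩ := Set.Finite.exists_minimalFor id
    {Y : Subgroup G | N ≤ Y ∧ Y ≤ M ∧ P ≤ normalizer (Y : Set G) ∧ ¬ Y ≤ centralizer (E : Set G)} (Set.toFinite _)
    ⟨M, inf_le_left, le_rfl, hPM, fun h => hz₀E ((mem_normalizer_iff.1 hen z₀).2 (h hzM))⟩
  set Y' := ⁅Y, P⁆ ⊔ N with hY'
  have hY'Y : Y' ≤ Y := sup_le (CfsgLib.Solvable.commutator_le_of_le_normalizer hPY) hNY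
  have hY'E : Y' ≤ centralizer (E : Set G) := by
    by_contra hc
    have hPY' : P ≤ normalizer (Y' : Set G) := fun r hr =>
      CfsgLib.LocalEven.mem_normalizer_of_conj_le (le_of_eq_of_le (Subgroup.map_sup _ _ _) (sup_le_sup
        (mem_normalizer_iff_map_conj_eq.1 (CfsgLib.Solvable.le_normalizer_commutator_right hPY hr)).le
        (mem_normalizer_iff_map_conj_eq.1 (hPN hr)).le))
    have hYY' : Y ≤ Y' := hmin ⟨le_sup_right, hY'Y.trans hYM, hPY', hc⟩ hY'Y
    refine hYE ((le_of_le_commutator_sup (X := P) ((CfsgLib.PGroup.elemAb_isPGroup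
      (CfsgLib.LocalEven.Oz.elemAb (p := p) (pCore p G))).to_le (hYM.trans inf_le_left)) hPp hPY ?_ hPN hYY').trans
      inf_le_right)
    exact fun y hy => centralizer_le_normalizer _ (mem_centralizer_iff.2 fun n hn => hMc hn.1 (hYM hy))
  obtain ⟨z, hzY, hzE⟩ := SetLike.not_le_iff_exists.1 hYE
  obtain ⟨x, hx, hxP, hxE⟩ := exists_fixed_of_average hE inf_le_right hidx hPH hPS (hYM hzY).1
    (fun s hs => mem_centralizer_iff.1 (hYM hzY).2 s hs) hzE
    (fun r hr => hY'E (mem_sup_left (commutator_mem_commutator hzY hr)))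
  exact ⟨x, hx, centralizer_le hP0P hxP, hxE⟩

end CfsgLib.LocalEven.BlockBaumann
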