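import Mathlib
import Cfsg.Agent.Lib.LocalEven.BlockBaumann.Fixed

/-!
Subnormal blocks and the Baumann subgroup of the whole group.
-/

set_option autoImplicit false

namespace CfsgLib.LocalEven.BlockBaumann

open Subgroup Cfsg
open CfsgLib.LocalEven.SubBlock
open scoped Pointwise commutatorElement IsMulCommutative

variable {G : Type*} [Group G] [Finite G] {p : ℕ} [Fact p.Prime] {T : Sylow p G} {E : Subgroup G}

theorem thompson_le_normalCore (hG : centralizer (pCore p G : Set G) ≤ pCore p G)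
    (hE : IsBaumannBlock p (T : Subgroup G) E) (hEs : E.IsSubnormal) (S : Sylow p G) :
    thompsonSubgroupOf p (S : Subgroup G) ≤ (normalizer (E : Set G)).normalCore := by
  intro a ha b
  refine thompson_le_normalizer hG hE hEs (b • S) ?_
  rw [smul_coe, ← CfsgLib.Transfer.thompsonSubgroupOf_map _ ((MulAut.conj b).injective.injOn)]
  exact ⟨a, ha, rfl⟩

/-- `C(Ω₁(Z(J(T))))` normalises `E`. -/
theorem centralizer_omega_le (hG : centralizer (pCore p G : Set G) ≤ pCore p G)
    (hE : IsBaumannBlock p (T : Subgroup G) E) (hEs : E.IsSubnormal) :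
    centralizer (omegaOne p (centerThompsonOf p (T : Subgroup G)) : Set G) ≤ normalizer (E : Set G) := by
  set J := thompsonSubgroupOf p (T : Subgroup G) with hJ
  have hJN : J ≤ normalizer (E : Set G) := thompson_le_normalizer hG hE hEs T
  obtain ⟨x, hx, hxJ, hxE⟩ := exists_fixed hG hE hEs
    (T.2.to_le (CfsgLib.Transfer.thompsonSubgroupOf_le p _)) hJN
  have hxA : x ∈ bA p G := bWE_le_bA hG hE hx
  obtain ⟨A, hA, hAT⟩ := CfsgLib.Transfer.exists_maxEA_le_sylow T
  have hAJ : A ≤ J := CfsgLib.Transfer.le_thompsonSubgroupOf hA hAT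
  have hz : IsElementaryAbelian p (zpowers x) :=
    CfsgLib.PGroup.elemAb_mono (CfsgLib.LocalEven.Oz.elemAb (p := p) (pCore p G)) (zpowers_le.2 hxA)
  have hsup : IsElementaryAbelian p (A ⊔ zpowers x) := elemAb_sup hA.1 hz fun a ha y hy => by
    obtain ⟨k, rfl⟩ := mem_zpowers_iff.1 hy
    exact ((show Commute a x from mem_centralizer_iff.1 hxJ a (hAJ ha)).zpow_right k).eq
  have hxin : x ∈ A := by
    rw [eq_of_le_of_card_ge (le_sup_left : A ≤ A ⊔ zpowers x) (hA.2 _ hsup)]
    exact mem_sup_right (mem_zpowers x)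
  have hxO : x ∈ omegaOne p (centerThompsonOf p (T : Subgroup G)) :=
    CfsgLib.LocalEven.Oz.mem_iff.2 ⟨hAJ hxin, mem_centralizer_iff.1 hxJ,
      (CfsgLib.LocalEven.Oz.mem_iff.1 hxA).2.2⟩
  intro c hc
  by_contra hcn
  have h1 := conj_le_centralizer hG hE hEs hcn ((bWE_le E).trans (bW_le E) hx)
  rw [← mem_centralizer_iff.1 hc x hxO, mul_inv_cancel_right] at h1
  exact hxE h1

/-- Every `B(T')` normalises `E`. -/
theorem baumannOf_le_normalizer (hG : centralizer (pCore p G : Set G) ≤ pCore p G)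
    (hE : IsBaumannBlock p (T : Subgroup G) E) (hEs : E.IsSubnormal) (S : Sylow p G) :
    baumannSubgroupOf p (S : Subgroup G) ≤ normalizer (E : Set G) := by
  obtain ⟨g, rfl⟩ := MulAction.exists_smul_eq G T S
  set K := (normalizer (E : Set G)).normalCore with hK
  set J := thompsonSubgroupOf p (T : Subgroup G) with hJ
  have hJK : J ≤ K := thompson_le_normalCore hG hE hEs T
  obtain ⟨Q, hQ⟩ := exists_sylow_eq_inf_of_isSubnormal T
    (Subgroup.Normal.isSubnormal (H := K) inferInstance)
  have hQm : (Q : Subgroup ↥K).map K.subtype = (T : Subgroup G) ⊓ K := by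
    rw [hQ, subgroupOf_map_subtype]
  have hF := Sylow.normalizer_sup_eq_top Q
  rw [hQm] at hF
  have hNJ : normalizer (((T : Subgroup G) ⊓ K : Subgroup G) : Set G) ≤ normalizer (J : Set G) := by
    intro n hn
    have hJS : thompsonSubgroupOf p ((T : Subgroup G) ⊓ K) = J :=
      CfsgLib.Transfer.thompsonSubgroupOf_eq_of_le inf_le_left (le_inf (CfsgLib.Transfer.thompsonSubgroupOf_le p _) hJK)
    rw [mem_normalizer_iff_map_conj_eq, ← hJS]
    refine (CfsgLib.Transfer.thompsonSubgroupOf_map _ ((MulAut.conj n).injective.injOn)).trans ?_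
    exact congrArg _ (mem_normalizer_iff_map_conj_eq.1 hn)
  have hg : g ∈ (↑(K ⊔ normalizer (J : Set G)) : Set G) := by
    rw [sup_comm]
    exact (sup_le_sup_right hNJ K) (hF.symm ▸ mem_top g)
  rw [coe_mul_of_right_le_normalizer_left K (normalizer (J : Set G)) (fun x _ => mem_normalizer_normal x)] at hg
  obtain ⟨k, hk, n, hn, rfl⟩ := hg
  have hkE : k ∈ normalizer (E : Set G) := normalCore_le _ hk
  rw [smul_coe, ← map_baumann]
  rintro _ ⟨b, hb, rfl⟩
  show k * n * b * (k * n)⁻¹ ∈ normalizer (E : Set G)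
  have hnC : n * b * n⁻¹ ∈ centralizer (omegaOne p (centerThompsonOf p (T : Subgroup G)) : Set G) :=
    (mem_normalizer_iff.1 (CfsgLib.LocalEven.Oz.mem_normalizer_centralizer
      (Baumann.normalizer_le_omegaCentre _ hn)) b).1 (Subgroup.mem_inf.1 hb).2
  rw [show k * n * b * (k * n)⁻¹ = k * (n * b * n⁻¹) * k⁻¹ by group]
  exact mul_mem (mul_mem hkE (centralizer_omega_le hG hE hEs hnC)) (inv_mem hkE)

theorem baumann_le (hG : centralizer (pCore p G : Set G) ≤ pCore p G)
    (hE : IsBaumannBlock p (T : Subgroup G) E) (hEs : E.IsSubnormal) :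
    baumannSubgroup p G ≤ normalizer (E : Set G) :=
  iSup_le (baumannOf_le_normalizer hG hE hEs)

theorem baumannSubgroup_normal : (baumannSubgroup p G).Normal := by
  refine ⟨fun x hx g => ?_⟩
  have h : (baumannSubgroup p G).map (MulAut.conj g).toMonoidHom ≤ baumannSubgroup p G := by
    rw [baumannSubgroup, Subgroup.map_iSup]
    refine iSup_le fun S => ?_
    rw [map_baumann, ← smul_coe]
    exact le_iSup (fun S : Sylow p G => baumannSubgroupOf p (S : Subgroup G)) (g • S)
  exact h ⟨x, hx, rfl⟩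

theorem block_le_baumann (hE : IsBaumannBlock p (T : Subgroup G) E) : E ≤ baumannSubgroup p G := by
  haveI := baumannSubgroup_normal (p := p) (G := G)
  conv_lhs => rw [← hE.2.1]
  have h : baumannSubgroupOf p (T : Subgroup G) ≤ baumannSubgroup p G :=
    le_iSup (fun S : Sylow p G => baumannSubgroupOf p (S : Subgroup G)) T
  exact (commutator_mono le_rfl h).trans (commutator_le_right E (baumannSubgroup p G))

/-- Some element of `Ω₁(Z(T'))` does not centralise `E`. -/
theorem commutator_omegaCentre_ne_bot (hG : centralizer (pCore p G : Set G) ≤ pCore p G)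
    (hE : IsBaumannBlock p (T : Subgroup G) E) (hEs : E.IsSubnormal) (S : Sylow p G) :
    ⁅E, omegaOneCenter p (S : Subgroup G)⁆ ≠ ⊥ := by
  classical
  haveI hAn := bA_normal (p := p) (G := G)
  haveI : IsMulCommutative ↥(bA p G) := (CfsgLib.LocalEven.Oz.elemAb (p := p) (pCore p G)).1
  set R := (S : Subgroup G) ⊓ normalizer (E : Set G) with hR
  obtain ⟨x, hx, hxR, hxE⟩ := exists_fixed hG hE hEs (S.2.to_le (inf_le_left : R ≤ _)) inf_le_right
  have hxA : x ∈ bA p G := bWE_le_bA hG hE hx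
  let R' := R.subgroupOf (S : Subgroup G)
  haveI : Fintype (↥(S : Subgroup G) ⧸ R') := Fintype.ofFinite _
  let f : ↥(S : Subgroup G) ⧸ R' → ↥(bA p G) := Quotient.lift
    (fun t : ↥(S : Subgroup G) => (⟨(t : G) * x * (t : G)⁻¹, hAn.conj_mem x hxA t⟩ : ↥(bA p G)))
    (fun a b hab => by
      refine Subtype.ext ?_
      have hab' : a⁻¹ * b ∈ R' := QuotientGroup.leftRel_apply.1 hab
      have hs : (a : G)⁻¹ * b ∈ R := hab'
      show (a : G) * x * (a : G)⁻¹ = (b : G) * x * (b : G)⁻¹
      have h1 := mem_centralizer_iff.1 hxR _ hs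
      calc (a : G) * x * (a : G)⁻¹ = (a : G) * (x * ((a : G)⁻¹ * b)) * (b : G)⁻¹ := by group
        _ = (a : G) * (((a : G)⁻¹ * b) * x) * (b : G)⁻¹ := by rw [h1]
        _ = _ := by group)
  let y : ↥(bA p G) := ∏ q, f q
  have hyS : ∀ t ∈ (S : Subgroup G), t * (y : G) = (y : G) * t := by
    intro t ht
    let φ : ↥(bA p G) →* ↥(bA p G) := (MulAut.conjNormal (H := bA p G) t).toMonoidHom
    have hφ : ∀ q, φ (f q) = f ((⟨t, ht⟩ : ↥(S : Subgroup G)) • q) := by
      intro q
      induction q using QuotientGroup.induction_on with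
      | H h =>
        refine Subtype.ext ?_
        show t * ((h : G) * x * (h : G)⁻¹) * t⁻¹ = (t * (h : G)) * x * (t * (h : G))⁻¹
        group
    have hy : φ y = y := by
      rw [map_prod, Finset.prod_congr rfl fun q _ => hφ q]
      exact Equiv.prod_comp (MulAction.toPerm (⟨t, ht⟩ : ↥(S : Subgroup G))) f
    exact mul_inv_eq_iff_eq_mul.1 (congrArg Subtype.val hy)
  have hpS : pCore p G ≤ (S : Subgroup G) := by
    haveI := CfsgLib.Cores.pCore_characteristic (G := G) p
    exact IsPGroup.le_sylow_of_normal (CfsgLib.Cores.isPGroup_pCore p) S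
  have hyO : (y : G) ∈ omegaOneCenter p (S : Subgroup G) :=
    CfsgLib.LocalEven.Oz.mem_iff.2 ⟨hpS (bA_le y.2), hyS, (CfsgLib.LocalEven.Oz.mem_iff.1 y.2).2.2⟩
  intro hbot
  rw [commutator_comm, commutator_eq_bot_iff_le_centralizer] at hbot
  have hyC := hbot hyO
  refine hxE ?_
  set q₀ : ↥(S : Subgroup G) ⧸ R' := QuotientGroup.mk 1
  have hrest : ((∏ q ∈ Finset.univ.erase q₀, f q : ↥(bA p G)) : G) ∈ centralizer (E : Set G) := by
    suffices (∏ q ∈ Finset.univ.erase q₀, f q) ∈ (centralizer (E : Set G)).subgroupOf (bA p G) from this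
    refine prod_mem fun q hq => ?_
    induction q using QuotientGroup.induction_on with
    | H h =>
      show (h : G) * x * (h : G)⁻¹ ∈ centralizer (E : Set G)
      refine conj_le_centralizer hG hE hEs (fun hn => (Finset.mem_erase.1 hq).1 ?_) ((bWE_le E).trans (bW_le E) hx)
      refine QuotientGroup.eq.2 ?_
      show ((h : G))⁻¹ * 1 ∈ R
      rw [mul_one]
      exact inv_mem (Subgroup.mem_inf.2 ⟨h.2, hn⟩)
  have h0 : f q₀ * ∏ q ∈ Finset.univ.erase q₀, f q = y := Finset.mul_prod_erase _ _ (Finset.mem_univ _)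
  have h1 : (f q₀ : G) = x := by show (1 : G) * x * (1 : G)⁻¹ = x; group
  rw [← h1, show f q₀ = y * (∏ q ∈ Finset.univ.erase q₀, f q)⁻¹ by rw [← h0, mul_inv_cancel_right]]
  exact mul_mem hyC (inv_mem hrest)

/-- `E` is a block with respect to every Sylow subgroup. -/
theorem isBlock_all (hG : centralizer (pCore p G : Set G) ≤ pCore p G)
    (hE : IsBaumannBlock p (T : Subgroup G) E) (hEs : E.IsSubnormal) (S : Sylow p G) :
    IsBaumannBlock p (S : Subgroup G) E := by
  obtain ⟨g, rfl⟩ := MulAction.exists_smul_eq G T S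
  haveI := baumannSubgroup_normal (p := p) (G := G)
  set H := baumannSubgroup p G with hH
  set B := baumannSubgroupOf p (T : Subgroup G) with hB
  have hBT : B ≤ (T : Subgroup G) ⊓ H :=
    le_inf (Baumann.baumann_le _) (le_iSup (fun S : Sylow p G => baumannSubgroupOf p (S : Subgroup G)) T)
  obtain ⟨Q, hQ⟩ := exists_sylow_eq_inf_of_isSubnormal T
    (Subgroup.Normal.isSubnormal (H := H) inferInstance)
  have hQm : (Q : Subgroup ↥H).map H.subtype = (T : Subgroup G) ⊓ H := by rw [hQ, subgroupOf_map_subtype]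
  have hF := Sylow.normalizer_sup_eq_top Q
  rw [hQm] at hF
  have hNB : normalizer (((T : Subgroup G) ⊓ H : Subgroup G) : Set G) ≤ normalizer (B : Set G) := by
    intro n hn
    rw [mem_normalizer_iff_map_conj_eq]
    refine (map_baumann (MulAut.conj n) (T : Subgroup G)).trans ?_
    rw [← smul_coe]
    refine Baumann.baumann_eq_of_le ?_
    rw [smul_coe]
    refine hBT.trans ?_
    rw [← mem_normalizer_iff_map_conj_eq.1 hn]
    exact map_mono inf_le_left
  have hg : g ∈ (↑(H ⊔ normalizer (B : Set G)) : Set G) := by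
    rw [sup_comm]
    exact (sup_le_sup_right hNB H) (hF.symm ▸ mem_top g)
  rw [coe_mul_of_right_le_normalizer_left H (normalizer (B : Set G)) (fun x _ => mem_normalizer_normal x)] at hg
  obtain ⟨h, hh, n, hn, rfl⟩ := hg
  have hhE : E.map (MulAut.conj h).toMonoidHom = E :=
    mem_normalizer_iff_map_conj_eq.1 (baumann_le hG hE hEs hh)
  have hB' : baumannSubgroupOf p (((h * n) • T : Sylow p G) : Subgroup G) = B.map (MulAut.conj h).toMonoidHom := by
    rw [smul_coe, ← map_baumann]
    conv_rhs => rw [← mem_normalizer_iff_map_conj_eq.1 hn, Subgroup.map_map]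
    congr 1
    ext x
    simp [mul_assoc]
  obtain ⟨h1, h2, h3, -, h5⟩ := id hE
  refine ⟨h1, ?_, h3, commutator_omegaCentre_ne_bot hG hE hEs _, ?_⟩
  · rw [hB']
    conv_lhs => rw [← hhE]
    rw [← map_commutator, h2, hhE]
  rcases h5 with ⟨F, iF, iFt, k, hk, hiso, hsec, hQW⟩ | h5
  swap
  · exact Or.inr h5
  refine Or.inl ⟨F, iF, iFt, k, hk, hiso, hsec, hQW.imp id ?_⟩
  rintro ⟨hp, hs, hd, hf, hc, hcard, hq⟩
  refine ⟨hp, hs, hd, hf, hc, hcard, fun b hb hbc hle => ?_⟩
  rw [hB'] at hb
  obtain ⟨a, ha, rfl⟩ := hb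
  have hhn : h ∈ normalizer (E : Set G) := baumann_le hG hE hEs hh
  refine hq a ha (fun hac => hbc ?_) ?_
  · exact (mem_normalizer_iff.1 (CfsgLib.LocalEven.Oz.mem_normalizer_centralizer (normalizer_le_bW E hhn)) a).1 hac
  · have hQh : (pCoreOf p E).map (MulAut.conj h).toMonoidHom = pCoreOf p E :=
      mem_normalizer_iff_map_conj_eq.1 (Block.normalizer_le_pCoreOf (p := p) E hhn)
    have hZh : (E ⊓ centralizer (E : Set G)).map (MulAut.conj h).toMonoidHom = E ⊓ centralizer (E : Set G) :=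
      mem_normalizer_iff_map_conj_eq.1 (Baumann.normalizer_inf_le E _
      ⟨hhn, CfsgLib.LocalEven.Oz.mem_normalizer_centralizer hhn⟩)
    rw [← hQh, ← MonoidHom.map_zpowers, ← map_commutator, ← map_commutator, ← hZh,
      map_le_map_iff_of_injective (MulAut.conj h).injective] at hle
    exact hle

end CfsgLib.LocalEven.BlockBaumann
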