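import Mathlib
import Cfsg.Agent.Lib.LocalEven.BlockBaumann.Basics

/-!
Additive maps of a plane over a finite field normalising `SL₂` are semilinear.
-/

set_option autoImplicit false

namespace CfsgLib.LocalEven.BlockBaumann.SemiLin

open Subgroup Cfsg
open CfsgLib.LocalEven.BlockCentral.Lin (act)

variable {K : Type} [Field K]

/-- The determinant form. -/
def dt (u v : Fin 2 → K) : K := u 0 * v 1 - u 1 * v 0

theorem dt_self (u : Fin 2 → K) : dt u u = 0 := by simp [dt, mul_comm]

theorem dt_smul_right (x : K) (u v : Fin 2 → K) : dt u (x • v) = x * dt u v := by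
  simp [dt]; ring

theorem dt_smul_left (x : K) (u v : Fin 2 → K) : dt (x • u) v = x * dt u v := by
  simp [dt]; ring

theorem dt_comb (a b : Fin 2 → K) (x y z w : K) :
    dt (x • a + y • b) (z • a + w • b) = dt a b * (x * w - y * z) := by
  simp [dt]; ring

theorem cramer {a b : Fin 2 → K} (h : dt a b ≠ 0) (v : Fin 2 → K) :
    v = (dt v b / dt a b) • a + (dt a v / dt a b) • b := by
  ext i
  have key : dt v b * a i + dt a v * b i = dt a b * v i := by
    fin_cases i <;> simp [dt] <;> ring
  simp only [Pi.add_apply, Pi.smul_apply, smul_eq_mul]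
  rw [div_mul_eq_mul_div, div_mul_eq_mul_div, ← add_div, key, mul_div_cancel_left₀ _ h]

theorem coords (v : Fin 2 → K) : v = v 0 • ![1, 0] + v 1 • ![0, 1] := by
  ext i; fin_cases i <;> simp

theorem dt_e : dt (![1, 0] : Fin 2 → K) ![0, 1] = 1 := by simp [dt]

theorem exists_dt_ne {u : Fin 2 → K} (hu : u ≠ 0) : ∃ v, dt u v ≠ 0 := by
  by_contra h
  push Not at h
  refine hu (funext fun i => ?_)
  have h1 := h ![1, 0]
  have h2 := h ![0, 1]
  simp [dt] at h1 h2
  fin_cases i
  · exact h2
  · exact h1

theorem parallel {u v : Fin 2 → K} (hu : u ≠ 0) (h : dt u v = 0) : ∃ x : K, v = x • u := by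
  obtain ⟨w, hw⟩ := exists_dt_ne hu
  refine ⟨dt v w / dt u w, ?_⟩
  conv_lhs => rw [cramer hw v, h, zero_div, zero_smul, add_zero]

/-- An additive map respecting the form is semilinear. -/
theorem map_smul_of_dt {χ : (Fin 2 → K) →+ (Fin 2 → K)} (hs : Function.Surjective χ) {D : K} {σ : K →+* K}
    (hd : ∀ u v, dt (χ u) (χ v) = D * σ (dt u v)) (x : K) (v : Fin 2 → K) : χ (x • v) = σ x • χ v := by
  have key : ∀ w, dt (χ (x • v)) w = dt (σ x • χ v) w := fun w => by
    obtain ⟨u, rfl⟩ := hs w
    rw [dt_smul_left, hd, hd, dt_smul_left, map_mul]; ring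
  have h1 := key ![1, 0]
  have h2 := key ![0, 1]
  simp [dt] at h1 h2
  ext i
  fin_cases i
  · simpa using h2
  · simpa using h1

variable [Fintype K]

/-- Endomorphisms of a finite field commute. -/
theorem ringHom_comm (σ τ : K →+* K) (x : K) : σ (τ x) = τ (σ x) := by
  by_cases hx : x = 0
  · simp [hx]
  obtain ⟨m, hm⟩ := MonoidHom.map_cyclic (Units.map (σ : K →* K))
  obtain ⟨l, hl⟩ := MonoidHom.map_cyclic (Units.map (τ : K →* K))
  set u := Units.mk0 x hx with hu
  have h : Units.map (σ : K →* K) (Units.map (τ : K →* K) u) =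
      Units.map (τ : K →* K) (Units.map (σ : K →* K) u) := by
    rw [hm, hl, hl, hm, ← zpow_mul, ← zpow_mul, mul_comm]
  exact congrArg Units.val h

/-- The map sending lines to lines is semilinear. -/
theorem exists_semi (χ : (Fin 2 → K) →+ (Fin 2 → K)) (hinj : Function.Injective χ)
    (hcomm : ∀ r : Matrix.SpecialLinearGroup (Fin 2) K,
      ∃ r' : Matrix.SpecialLinearGroup (Fin 2) K, ∀ v, χ (act r v) = act r' (χ v)) :
    ∃ (D : K) (σ : K →+* K), D ≠ 0 ∧ ∀ u v, dt (χ u) (χ v) = D * σ (dt u v) := by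
  classical
  have hline : ∀ (u : Fin 2 → K) (x : K), dt (χ u) (χ (x • u)) = 0 := by
    intro u x
    by_cases hu : u = 0
    · simp [hu, dt]
    by_contra hne
    let r : Matrix.SpecialLinearGroup (Fin 2) K :=
      ⟨!![1 - u 1 * u 0, u 0 * u 0; -(u 1 * u 1), 1 + u 0 * u 1], by rw [Matrix.det_fin_two_of]; ring⟩
    have hr : ∀ v, act r v = v + dt u v • u := by
      intro v
      ext i
      fin_cases i <;> simp [act, r, dt, Matrix.mulVec, dotProduct, Fin.sum_univ_two] <;> ring
    obtain ⟨r', hr'⟩ := hcomm r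
    have hfix : ∀ w, dt u w = 0 → act r' (χ w) = χ w := fun w hw => by
      rw [← hr', hr, hw, zero_smul, add_zero]
    have h1 := hfix u (dt_self u)
    have h2 := hfix (x • u) (by rw [dt_smul_right, dt_self, mul_zero])
    have hid : ∀ v, act r' v = v := fun v => by
      conv_lhs => rw [cramer hne v]
      rw [act, Matrix.mulVec_add, Matrix.mulVec_smul, Matrix.mulVec_smul, show (r' : Matrix (Fin 2) (Fin 2) K).mulVec (χ u) = χ u from h1,
        show (r' : Matrix (Fin 2) (Fin 2) K).mulVec (χ (x • u)) = χ (x • u) from h2, ← cramer hne v]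
    obtain ⟨w, hw⟩ := exists_dt_ne hu
    have h3 := hinj ((hr' w).trans (hid _))
    rw [hr, add_eq_left] at h3
    exact hu ((smul_eq_zero.1 h3).resolve_left hw)
  set a := χ ![1, 0] with ha
  set b := χ ![0, 1] with hb
  have hne : ∀ {v : Fin 2 → K}, v ≠ 0 → χ v ≠ 0 := fun hv h => hv (hinj (h.trans (map_zero χ).symm))
  have hd : dt a b ≠ 0 := by
    intro h
    have hpar : ∀ v, ∃ t : K, χ v = t • a := by
      intro v
      rw [coords v, map_add]
      obtain ⟨s, hs⟩ := parallel (hne (by simp)) (hline ![1, 0] (v 0))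
      obtain ⟨t, ht⟩ := parallel (hne (by simp)) (hline ![0, 1] (v 1))
      obtain ⟨c, hc⟩ := parallel (hne (by simp)) h
      exact ⟨s + t * c, by rw [hs, ht, ← hb, hc, ← ha, smul_smul, add_smul]⟩
    choose t ht using hpar
    have hti : Function.Injective t := fun u v huv => hinj (by rw [ht, ht v, huv])
    have h1 := Fintype.card_le_of_injective t hti
    rw [Fintype.card_fun, Fintype.card_fin] at h1
    nlinarith [Fintype.one_lt_card (α := K)]
  have h0 : ∀ x : K, ∃ s : K, χ (x • ![1, 0]) = s • a := fun x => parallel (hne (by simp)) (hline _ x)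
  have h1 : ∀ x : K, ∃ s : K, χ (x • ![0, 1]) = s • b := fun x => parallel (hne (by simp)) (hline _ x)
  choose α hα using h0
  choose β hβ using h1
  have hval : ∀ v, χ v = α (v 0) • a + β (v 1) • b := fun v => by
    conv_lhs => rw [coords v, map_add, hα, hβ]
  have huniq : ∀ {s t : K}, s • a = t • a → s = t := fun h => by
    have := congrArg (fun v => dt v b) h
    simp only [dt_smul_left] at this
    exact mul_right_cancel₀ hd this
  have hone : α 1 = 1 ∧ β 1 = 1 := by
    constructor
    · refine huniq ?_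
      rw [← hα, one_smul, one_smul]
    · have h : β 1 • b = (1 : K) • b := by rw [← hβ, one_smul, one_smul]
      have := congrArg (dt a) h
      simp only [dt_smul_right] at this
      exact mul_right_cancel₀ hd this
  have hαβ : α = β := funext fun x => by
    have h := hline ![1, 1] x
    rw [hval, hval (x • ![1, 1]), dt_comb] at h
    simp [hone, hd, sub_eq_zero] at h
    exact h.symm
  have hmul : ∀ x y, α (x * y) = α x * α y := fun x y => by
    have h := hline ![1, y] x
    rw [hval, hval (x • ![1, y]), dt_comb, ← hαβ] at h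
    simp [hone, hd, sub_eq_zero] at h
    rw [h, mul_comm]
  have hadd : ∀ x y, α (x + y) = α x + α y := fun x y => huniq (by
    rw [← hα, add_smul, map_add, hα, hα, ← add_smul])
  let σ : K →+* K :=
    { toFun := α
      map_one' := hone.1
      map_mul' := hmul
      map_zero' := by
        have := hadd 0 0
        rw [add_zero] at this
        exact left_eq_add.1 this
      map_add' := hadd }
  refine ⟨dt a b, σ, hd, fun u v => ?_⟩
  rw [hval u, hval v, dt_comb, ← hαβ]
  show dt a b * (σ (u 0) * σ (v 1) - σ (u 1) * σ (v 0)) = dt a b * σ (u 0 * v 1 - u 1 * v 0)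
  rw [map_sub, map_mul, map_mul]

/-- A non-trivial semilinear map fixes few vectors. -/
theorem card_fixed_le {χ : (Fin 2 → K) →+ (Fin 2 → K)} {σ : K →+* K}
    (hlin : ∀ (x : K) v, χ (x • v) = σ x • χ v) {x : K} (hx : σ x ≠ x) :
    Nat.card {v : Fin 2 → K // χ v = v} * Nat.card {v : Fin 2 → K // χ v = v} ≤ Fintype.card K ^ 2 := by
  classical
  rw [← Nat.card_prod]
  refine (Nat.card_le_card_of_injective (fun uv : {v : Fin 2 → K // χ v = v} × {v : Fin 2 → K // χ v = v} =>
    (uv.1 : Fin 2 → K) + x • (uv.2 : Fin 2 → K)) ?_).trans (le_of_eq ?_)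
  · rintro ⟨⟨u, hu⟩, v, hv⟩ ⟨⟨u', hu'⟩, v', hv'⟩ h
    simp only at h
    have h2 := congrArg χ h
    rw [map_add, map_add, hlin, hlin, hu, hv, hu', hv'] at h2
    have h3 : (σ x - x) • (v - v') = 0 := by
      rw [sub_smul, smul_sub, smul_sub]
      linear_combination (norm := module) h2 - h
    have h4 : v = v' := sub_eq_zero.1 ((smul_eq_zero.1 h3).resolve_left (sub_ne_zero.2 hx))
    subst h4
    exact Prod.ext (Subtype.ext (add_right_cancel h)) rfl
  · rw [Nat.card_eq_fintype_card, Fintype.card_fun, Fintype.card_fin]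

end CfsgLib.LocalEven.BlockBaumann.SemiLin
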