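import Mathlib
import Cfsg.Agent.Lib.LocalEven.BlockBaumann.SemiLin

/-!
The semilinear group induced on `W / Z` by the normalizer of a linear block.
-/

set_option autoImplicit false

namespace CfsgLib.LocalEven.BlockBaumann

open Subgroup Cfsg
open CfsgLib.LocalEven.SubBlock CfsgLib.LocalEven.BlockCentral
open SemiLin (dt)
open scoped commutatorElement

variable {G : Type*} [Group G] [Finite G] {p : ℕ} [Fact p.Prime] {T : Sylow p G} {E : Subgroup G}
variable {K : Type} [Field K]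

/-- Conjugation by `g` is semilinear with multiplier `D` and automorphism `σ`. -/
def Semi (R : Rep p K E (bW p E) (bZ p E)) (g : G) (D : K) (σ : K →+* K) : Prop :=
  ∀ a ∈ bW p E, ∀ b ∈ bW p E,
    dt (R.vec (g * a * g⁻¹)) (R.vec (g * b * g⁻¹)) = D * σ (dt (R.vec a) (R.vec b))

variable {R : Rep p K E (bW p E) (bZ p E)}

omit [Finite G] [Fact p.Prime] in
theorem Semi.value {g : G} {D : K} {σ : K →+* K} (h : Semi R g D σ) :
    ∀ x : K, ∃ a ∈ bW p E, ∃ b ∈ bW p E, dt (R.vec a) (R.vec b) = x ∧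
      dt (R.vec (g * a * g⁻¹)) (R.vec (g * b * g⁻¹)) = D * σ x := by
  intro x
  obtain ⟨a, ha, hva⟩ := R.vec_surj (x • ![1, 0])
  obtain ⟨b, hb, hvb⟩ := R.vec_surj ![0, 1]
  have h1 : dt (R.vec a) (R.vec b) = x := by rw [hva, hvb, SemiLin.dt_smul_left, SemiLin.dt_e, mul_one]
  exact ⟨a, ha, b, hb, h1, by rw [h a ha b hb, h1]⟩

omit [Finite G] [Fact p.Prime] in
theorem Semi.unique {g : G} {D D' : K} {σ σ' : K →+* K} (hD : D ≠ 0) (h : Semi R g D σ)
    (h' : Semi R g D' σ') : D = D' ∧ σ = σ' := by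
  have key : ∀ x, D * σ x = D' * σ' x := fun x => by
    obtain ⟨a, ha, b, hb, h1, h2⟩ := h.value x
    rw [← h2, h' a ha b hb, h1]
  have hDD : D = D' := by simpa using key 1
  subst hDD
  exact ⟨rfl, RingHom.ext fun x => mul_left_cancel₀ hD (key x)⟩

omit [Finite G] [Fact p.Prime] in
theorem semi_one : Semi R 1 1 (RingHom.id K) := fun a _ b _ => by simp

omit [Finite G] [Fact p.Prime] in
theorem Semi.mul {g h : G} {D D' : K} {σ σ' : K →+* K} (hh : h ∈ normalizer (bW p E : Set G))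
    (hg : Semi R g D σ) (hh' : Semi R h D' σ') : Semi R (g * h) (D * σ D') (σ.comp σ') := fun a ha b hb => by
  rw [show g * h * a * (g * h)⁻¹ = g * (h * a * h⁻¹) * g⁻¹ by group,
    show g * h * b * (g * h)⁻¹ = g * (h * b * h⁻¹) * g⁻¹ by group,
    hg _ ((mem_normalizer_iff.1 hh a).1 ha) _ ((mem_normalizer_iff.1 hh b).1 hb), hh' a ha b hb,
    map_mul, RingHom.comp_apply, mul_assoc]

omit [Finite G] [Fact p.Prime] in
theorem Semi.ne_zero {g : G} {D : K} {σ : K →+* K} (hg : g ∈ normalizer (bW p E : Set G)) (h : Semi R g D σ) :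
    D ≠ 0 := by
  intro h0
  subst h0
  have hg' : g⁻¹ ∈ normalizer (bW p E : Set G) := inv_mem hg
  obtain ⟨a, ha, hva⟩ := R.vec_surj ![1, 0]
  obtain ⟨b, hb, hvb⟩ := R.vec_surj ![0, 1]
  have := h _ ((mem_normalizer_iff.1 hg' a).1 ha) _ ((mem_normalizer_iff.1 hg' b).1 hb)
  rw [show g * (g⁻¹ * a * g⁻¹⁻¹) * g⁻¹ = a by group, show g * (g⁻¹ * b * g⁻¹⁻¹) * g⁻¹ = b by group, hva, hvb,
    SemiLin.dt_e, zero_mul] at this
  exact one_ne_zero this

omit [Finite G] [Fact p.Prime] in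
/-- The underlying map. -/
theorem Semi.exists_map {g : G} {D : K} {σ : K →+* K} (hgW : g ∈ normalizer (bW p E : Set G))
    (hgZ : g ∈ normalizer (bZ p E : Set G)) (h : Semi R g D σ) :
    ∃ χ : (Fin 2 → K) →+ (Fin 2 → K), (∀ a ∈ bW p E, χ (R.vec a) = R.vec (g * a * g⁻¹)) ∧
      Function.Surjective χ ∧ (∀ u v, dt (χ u) (χ v) = D * σ (dt u v)) ∧
      ∀ x v, χ (x • v) = σ x • χ v := by
  obtain ⟨χ, hχ⟩ := R.exists_map hgW hgZ
  have hs : Function.Surjective χ := fun v => by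
    obtain ⟨a, ha, rfl⟩ := R.vec_surj v
    have hg' : g⁻¹ * a * g ∈ bW p E := (mem_normalizer_iff''.1 hgW a).1 ha
    exact ⟨R.vec (g⁻¹ * a * g), by rw [hχ _ hg']; group⟩
  have hd : ∀ u v, dt (χ u) (χ v) = D * σ (dt u v) := fun u v => by
    obtain ⟨a, ha, rfl⟩ := R.vec_surj u
    obtain ⟨b, hb, rfl⟩ := R.vec_surj v
    rw [hχ a ha, hχ b hb, h a ha b hb]
  exact ⟨χ, hχ, hs, hd, SemiLin.map_smul_of_dt hs hd⟩

variable [Fintype K]

omit [Fact p.Prime] in
theorem exists_semi_of_normalizer (h4 : 4 ≤ Fintype.card K) {g : G} (hg : g ∈ normalizer (E : Set G)) :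
    ∃ (D : K) (σ : K →+* K), D ≠ 0 ∧ Semi R g D σ := by
  have hgW := normalizer_le_bW (p := p) E hg
  have hgZ := normalizer_le_bZ (p := p) E hg
  obtain ⟨χ, hχ⟩ := R.exists_map hgW hgZ
  have hinj : Function.Injective χ := by
    refine (injective_iff_map_eq_zero χ).2 fun v hv => ?_
    obtain ⟨a, ha, rfl⟩ := R.vec_surj v
    rw [hχ a ha, R.vec_eq_zero _ ((mem_normalizer_iff.1 hgW a).1 ha)] at hv
    exact (R.vec_eq_zero a ha).2 ((mem_normalizer_iff.1 hgZ a).2 hv)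
  obtain ⟨D, σ, hD, hd⟩ := SemiLin.exists_semi χ hinj fun r => by
    have hr : r ∈ commutator (Matrix.SpecialLinearGroup (Fin 2) K) := by
      rw [Lin.commutator_eq_top h4]; exact mem_top r
    obtain ⟨e, he, rfl⟩ := R.rho_surj r hr
    refine ⟨R.rho (g * e * g⁻¹), fun v => ?_⟩
    obtain ⟨a, ha, rfl⟩ := R.vec_surj v
    rw [← R.vec_conj e he a ha, hχ _ (Baumann.conj_mem_of_le_normalizer R.le_normalizer he ha), hχ a ha,
      ← R.vec_conj _ ((mem_normalizer_iff.1 hg e).1 he) _ ((mem_normalizer_iff.1 hgW a).1 ha)]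
    congr 1
    group
  exact ⟨D, σ, hD, fun a ha b hb => by rw [← hd, hχ a ha, hχ b hb]⟩

omit [Fact p.Prime] in
theorem exists_semi_inv (h4 : 4 ≤ Fintype.card K) {g : G} {D : K} {σ : K →+* K}
    (hg : g ∈ normalizer (E : Set G)) (h : Semi R g D σ) :
    ∃ (D' : K) (σ' : K →+* K), Semi R g⁻¹ D' σ' ∧ D * σ D' = 1 ∧ ∀ x, σ (σ' x) = x := by
  obtain ⟨D', σ', -, h'⟩ := exists_semi_of_normalizer (R := R) h4 (inv_mem hg)
  have h1 := h.mul (normalizer_le_bW E (inv_mem hg)) h'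
  rw [mul_inv_cancel] at h1
  obtain ⟨e1, e2⟩ := semi_one.unique one_ne_zero h1
  exact ⟨D', σ', h', e1.symm, fun x => (RingHom.congr_fun e2 x).symm⟩

omit [Fact p.Prime] in
/-- Linear conjugations commute with each other up to the automorphism. -/
theorem Semi.conj (h4 : 4 ≤ Fintype.card K) {f b : G} {D : K} (hb : b ∈ normalizer (E : Set G))
    (hf : f ∈ normalizer (E : Set G)) (h : Semi R f D (RingHom.id K)) {Db : K} {σ : K →+* K}
    (hb' : Semi R b Db σ) : Semi R (b * f * b⁻¹) (σ D) (RingHom.id K) := by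
  obtain ⟨D', σ', h', e1, e2⟩ := exists_semi_inv h4 hb hb'
  have h1 := (hb'.mul (normalizer_le_bW E hf) h).mul (normalizer_le_bW E (inv_mem hb)) h'
  rw [show (σ.comp (RingHom.id K)).comp σ' = RingHom.id K from RingHom.ext e2,
    show Db * σ D * (σ.comp (RingHom.id K)) D' = σ D by
      rw [RingHom.comp_id]; linear_combination (σ D) * e1] at h1
  exact h1

/-- The elements inducing linear maps. -/
def linPart (R : Rep p K E (bW p E) (bZ p E)) (h4 : 4 ≤ Fintype.card K) : Subgroup G where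
  carrier := {g | g ∈ normalizer (E : Set G) ∧ ∃ D, Semi R g D (RingHom.id K)}
  one_mem' := ⟨one_mem _, 1, semi_one⟩
  mul_mem' := fun {a b} ha hb => by
    obtain ⟨ha', D, h⟩ := ha
    obtain ⟨hb', D', h'⟩ := hb
    exact ⟨mul_mem ha' hb', _, h.mul (normalizer_le_bW E hb') h'⟩
  inv_mem' := fun {a} ha => by
    obtain ⟨ha', D, h⟩ := ha
    obtain ⟨D', σ', h', -, e2⟩ := exists_semi_inv h4 ha' h
    obtain rfl : σ' = RingHom.id K := RingHom.ext e2
    exact ⟨inv_mem ha', D', h'⟩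

/-- The elements inducing maps of determinant one. -/
def detPart (R : Rep p K E (bW p E) (bZ p E)) (h4 : 4 ≤ Fintype.card K) : Subgroup G where
  carrier := {g | g ∈ normalizer (E : Set G) ∧ Semi R g 1 (RingHom.id K)}
  one_mem' := ⟨one_mem _, semi_one⟩
  mul_mem' := fun {a b} ha hb => by
    refine ⟨mul_mem ha.1 hb.1, ?_⟩
    simpa using ha.2.mul (normalizer_le_bW E hb.1) hb.2
  inv_mem' := fun {a} ha => by
    obtain ⟨D', σ', h', e1, e2⟩ := exists_semi_inv h4 ha.1 ha.2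
    obtain rfl : σ' = RingHom.id K := RingHom.ext e2
    have e1' : D' = 1 := by simpa using e1
    exact ⟨inv_mem ha.1, e1' ▸ h'⟩

omit [Fact p.Prime] in
theorem commutator_mem_linPart (h4 : 4 ≤ Fintype.card K) {f b : G} (hf : f ∈ normalizer (E : Set G))
    (hb : b ∈ normalizer (E : Set G)) : ⁅f, b⁆ ∈ linPart R h4 := by
  refine ⟨?_, ?_⟩
  · rw [commutatorElement_def]
    exact mul_mem (mul_mem (mul_mem hf hb) (inv_mem hf)) (inv_mem hb)
  obtain ⟨Df, σf, -, h1⟩ := exists_semi_of_normalizer (R := R) h4 hf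
  obtain ⟨Db, σb, -, h2⟩ := exists_semi_of_normalizer (R := R) h4 hb
  obtain ⟨Df', σf', h1', -, ef⟩ := exists_semi_inv h4 hf h1
  obtain ⟨Db', σb', h2', -, eb⟩ := exists_semi_inv h4 hb h2
  have h := (((h1.mul (normalizer_le_bW E hb) h2).mul (normalizer_le_bW E (inv_mem hf)) h1').mul
    (normalizer_le_bW E (inv_mem hb)) h2')
  rw [show ((σf.comp σb).comp σf').comp σb' = RingHom.id K from RingHom.ext fun x => by
    show σf (σb (σf' (σb' x))) = x
    rw [SemiLin.ringHom_comm σb σf', ef, eb]] at h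
  exact ⟨_, by rw [commutatorElement_def]; exact h⟩

omit [Fact p.Prime] in
theorem commutator_mem_detPart (h4 : 4 ≤ Fintype.card K) {x y : G} (hx : x ∈ linPart R h4)
    (hy : y ∈ linPart R h4) : ⁅x, y⁆ ∈ detPart R h4 := by
  obtain ⟨hxN, Dx, h1⟩ := hx
  obtain ⟨hyN, Dy, h2⟩ := hy
  obtain ⟨Dy', σy', h2', ey, e2⟩ := exists_semi_inv h4 hyN h2
  obtain rfl : σy' = RingHom.id K := RingHom.ext e2
  have hc := (h2.conj h4 hxN hyN h1).mul (normalizer_le_bW E (inv_mem hyN)) h2'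
  refine ⟨?_, ?_⟩
  · rw [commutatorElement_def]
    exact mul_mem (mul_mem (mul_mem hxN hyN) (inv_mem hxN)) (inv_mem hyN)
  rw [RingHom.id_apply] at ey
  simp only [RingHom.id_apply, RingHom.comp_id, ey] at hc
  rw [show x * y * x⁻¹ * y⁻¹ = ⁅x, y⁆ from (commutatorElement_def x y).symm] at hc
  exact hc

/-- Maps of determinant one are induced by `E`. -/
theorem detPart_le (hE : IsBaumannBlock p (T : Subgroup G) E) (h4 : 4 ≤ Fintype.card K) :
    detPart R h4 ≤ E ⊔ (normalizer (E : Set G) ⊓ cW p E) := by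
  rintro g ⟨hg, h⟩
  obtain ⟨χ, hχ, -, hd, -⟩ := h.exists_map (normalizer_le_bW E hg) (normalizer_le_bZ E hg)
  obtain ⟨M, hM⟩ := Lin.det_linear χ fun u v => by
    have := hd u v
    rw [one_mul, RingHom.id_apply] at this
    exact this
  have hMR : M ∈ commutator (Matrix.SpecialLinearGroup (Fin 2) K) := by
    rw [Lin.commutator_eq_top h4]; exact mem_top M
  obtain ⟨e, he, rfl⟩ := R.rho_surj M hMR
  have hc : e⁻¹ * g ∈ normalizer (E : Set G) := mul_mem (inv_mem (le_normalizer he)) hg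
  have hcW : e⁻¹ * g ∈ cW p E := centralizes_of_modZ hE hc fun w hw => by
    have hw' := bWE_le E hw
    have hgw : g * w * g⁻¹ ∈ bW p E := (mem_normalizer_iff.1 (normalizer_le_bW E hg) w).1 hw'
    have hm : e⁻¹ * g * w * (e⁻¹ * g)⁻¹ ∈ bW p E := (mem_normalizer_iff.1 (normalizer_le_bW E hc) w).1 hw'
    have hv : R.vec (e⁻¹ * g * w * (e⁻¹ * g)⁻¹) = R.vec w := by
      rw [show e⁻¹ * g * w * (e⁻¹ * g)⁻¹ = e⁻¹ * (g * w * g⁻¹) * e⁻¹⁻¹ by group,
        R.vec_conj _ (inv_mem he) _ hgw, ← hχ w hw', hM, ← Lin.act_mul, R.rho_inv he, inv_mul_cancel]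
      simp [Lin.act]
    have := (R.vec_eq_iff hm hw').1 hv
    rw [commutatorElement_def]
    exact (Subgroup.mem_inf.1 this).2
  have := mul_mem (mem_sup_left (T := normalizer (E : Set G) ⊓ cW p E) he)
    (mem_sup_right (S := E) (Subgroup.mem_inf.2 ⟨hc, hcW⟩))
  rwa [mul_inv_cancel_left] at this

end CfsgLib.LocalEven.BlockBaumann
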