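import Mathlib
import Cfsg.Agent.Lib.LocalEven.BlockBaumann.Basics

/-!
Scalars on the top section of an exceptional block.
-/

set_option autoImplicit false

namespace CfsgLib.LocalEven.BlockBaumann

open Subgroup Cfsg
open CfsgLib.LocalEven.SubBlock CfsgLib.LocalEven.BlockCentral
open scoped commutatorElement

variable {G : Type*} [Group G] [Finite G] {p : ℕ} [Fact p.Prime] {T S : Sylow p G} {E F X C : Subgroup G}

theorem exists_rep_top (hX : IsBaumannBlock p (T : Subgroup G) X) (hx : Exc p (T : Subgroup G) X) :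
    ∃ (K : Type) (_ : Field K) (_ : Fintype K) (n : ℕ), Fintype.card K = 3 ^ n ∧
      Nonempty (Rep p K X (pCoreOf p X) (bW p X)) := by
  obtain ⟨-, -, -, -, hcases⟩ := id hX
  rcases hcases with ⟨K, _, _, n, hn, -, -, hQ | ⟨-, hQsec, -⟩⟩ | ⟨h2, -⟩
  · exfalso
    have hd := hx.derived
    have hab : ⁅pCoreOf p X, pCoreOf p X⁆ = ⊥ := by
      rw [commutator_eq_bot_iff_le_centralizer]
      exact fun a ha => mem_centralizer_iff.2 fun b hb => core_comm hb (hQ.le ha)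
    have hZ := hx.cardZ
    rw [show bZ p X = ⊥ from hd.symm.trans hab, card_bot, one_pow, eq_comm, bot_subgroupOf, index_bot] at hZ
    refine bWE_not_le hX fun w hw => ?_
    have hw' := bWE_le X hw
    rw [card_eq_one.1 hZ, mem_bot] at hw'
    rw [hw']; exact one_mem _
  · refine ⟨K, _, _, n, by rw [hn, hx.three], nonempty_rep hQsec hx.free fun e he u hu =>
      inf_le_left (b := centralizer (X : Set G)) (hx.derived.le (commutator_mem_commutator hu he))⟩
  · have := hx.three; omega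

/-- An element trivial on `Q/W` and centralising `W_X` centralises `O_p(X)` up to its `p`-part. -/
theorem centralizes_bW (hX : IsBaumannBlock p (T : Subgroup G) X) (hx : Exc p (T : Subgroup G) X) {c : G}
    (hc : c ∈ centralizer (bWE p X : Set G)) (hQ : c ∈ stab (pCoreOf p X) (bW p X)) :
    bW p X ≤ centralizer ({c} : Set G) := by
  have hWd : ∀ a ∈ pCoreOf p X, ∀ b ∈ pCoreOf p X, ⁅a, b⁆ ∈ bW p X := fun a ha b hb =>
    inf_le_left (b := centralizer (X : Set G)) (hx.derived.le (commutator_mem_commutator ha hb))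
  have hconj : ∀ q ∈ pCoreOf p X, ∃ a ∈ bW p X, c * q * c⁻¹ = a * q := fun q hq =>
    ⟨⁅c, q⁆, commutatorElement_inv q c ▸ inv_mem (hQ.2.2 q hq), conj_eq_comm_mul c q⟩
  have hZ : bZ p X ≤ centralizer ({c} : Set G) := by
    rw [← hx.derived, commutator_le]
    intro a ha b hb
    refine mem_centralizer_iff.2 fun y hy => ?_
    rw [Set.mem_singleton_iff.1 hy]
    obtain ⟨a1, ha1, e1⟩ := hconj a ha
    obtain ⟨b1, hb1, e2⟩ := hconj b hb
    have k1 : ⁅a, b1 * b⁆ = ⁅a, b⁆ := by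
      rw [show ⁅a, b1 * b⁆ = ⁅a, b1⁆ * (b1 * ⁅a, b⁆ * b1⁻¹) by simp only [commutatorElement_def]; group,
        commutatorElement_eq_one_iff_mul_comm.2 (core_comm ha hb1), one_mul,
        bW_comm hb1 (hWd a ha b hb), mul_inv_cancel_right]
    have k2 : ⁅a1 * a, b1 * b⁆ = ⁅a, b⁆ := by
      have hbb : b1 * b ∈ pCoreOf p X := mul_mem (bW_le_core X hb1) hb
      rw [show ⁅a1 * a, b1 * b⁆ = (a1 * ⁅a, b1 * b⁆ * a1⁻¹) * ⁅a1, b1 * b⁆ by
        simp only [commutatorElement_def]; group,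
        commutatorElement_eq_one_iff_mul_comm.2 (core_comm hbb ha1).symm, mul_one, k1,
        bW_comm ha1 (hWd a ha b hb), mul_inv_cancel_right]
    refine mul_inv_eq_iff_eq_mul.1 ?_
    rw [show c * ⁅a, b⁆ * c⁻¹ = ⁅c * a * c⁻¹, c * b * c⁻¹⁆ by simp only [commutatorElement_def]; group, e1, e2, k2]
  rw [← bWE_sup hX]
  exact sup_le (fun x hx' => mem_centralizer_iff.2 fun y hy => by
    rw [Set.mem_singleton_iff.1 hy]; exact (mem_centralizer_iff.1 hc x hx').symm) hZ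

/-- A block inside `E C` lies in `E C₀`, `C₀` the kernel of `C` on `O_p(X)/W`. -/
theorem shrink (hX : IsBaumannBlock p (T : Subgroup G) X) (hx : Exc p (T : Subgroup G) X)
    (hF : IsBaumannBlock p (S : Subgroup G) F)
    (hCE : C ≤ normalizer (E : Set G)) (hCX : C ≤ normalizer (X : Set G)) (hXC : ⁅X, C⁆ ≤ pCoreOf p X)
    (hEC : E ⊓ C ≤ pCore p G)
    (hFE : F ≤ normalizer (E : Set G)) (hFC : F ≤ normalizer (C : Set G)) (hFX : F ≤ normalizer (X : Set G))
    (hBE : baumannSubgroupOf p (S : Subgroup G) ≤ normalizer (E : Set G))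
    (hBC : baumannSubgroupOf p (S : Subgroup G) ≤ normalizer (C : Set G))
    (hBX : baumannSubgroupOf p (S : Subgroup G) ≤ normalizer (X : Set G))
    (hle : F ≤ E ⊔ C) : F ≤ E ⊔ (C ⊓ stab (pCoreOf p X) (bW p X)) := by
  classical
  obtain ⟨K, _, _, n, hn, ⟨R⟩⟩ := exists_rep_top hX hx
  set Q := pCoreOf p X with hQdef
  have hnQ : ∀ g ∈ normalizer (X : Set G), g ∈ normalizer (Q : Set G) := fun g hg =>
    Block.normalizer_le_pCoreOf X hg
  have hnW : ∀ g ∈ normalizer (X : Set G), g ∈ normalizer (bW p X : Set G) := fun g hg => normalizer_le_bW X hg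
  have hcQ : ∀ g ∈ normalizer (X : Set G), ∀ a ∈ Q, g * a * g⁻¹ ∈ Q := fun g hg a ha =>
    (mem_normalizer_iff.1 (hnQ g hg) a).1 ha
  have hsc : ∀ c ∈ C, ∃ l : K, ∀ a ∈ Q, R.vec (c * a * c⁻¹) = l • R.vec a := by
    intro c hc
    obtain ⟨χ, hχ⟩ := R.exists_map (hnQ c (hCX hc)) (hnW c (hCX hc))
    refine (Lin.comm_scalar hn χ fun r hr v => ?_).imp fun l hl a ha => (hχ a ha).symm.trans (hl _)
    obtain ⟨e, he, rfl⟩ := R.rho_surj r hr
    obtain ⟨a, ha, rfl⟩ := R.vec_surj v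
    have hea : e * a * e⁻¹ ∈ Q := hcQ e (le_normalizer he) a ha
    rw [← R.vec_conj e he a ha, hχ _ hea, hχ a ha]
    have hq : c * e * c⁻¹ * e⁻¹ ∈ Q := by
      have h1 := inv_mem (hXC (commutator_mem_commutator he hc))
      rwa [commutatorElement_inv, commutatorElement_def] at h1
    have hce : c * e * c⁻¹ ∈ X := (mem_normalizer_iff.1 (hCX hc) e).1 he
    have hrho : R.rho (c * e * c⁻¹) = R.rho e := by
      have h1 := R.rho_mul _ (CfsgLib.LocalEven.pCoreOf_le p X hq) e he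
      rw [inv_mul_cancel_right, (R.rho_eq_one _ (CfsgLib.LocalEven.pCoreOf_le p X hq)).2 hq, one_mul] at h1
      exact h1
    rw [show c * (e * a * e⁻¹) * c⁻¹ = (c * e * c⁻¹) * (c * a * c⁻¹) * (c * e * c⁻¹)⁻¹ by group,
      R.vec_conj _ hce _ (hcQ c (hCX hc) a ha), hrho]
  choose l hl using hsc
  set C₀ := C ⊓ stab Q (bW p X) with hC₀
  have hC₀mem : ∀ c (hc : c ∈ C), (∀ a ∈ Q, R.vec (c * a * c⁻¹) = R.vec a) → c ∈ C₀ := by
    intro c hc h
    refine Subgroup.mem_inf.2 ⟨hc, mem_stab_of_le (bW_le_core X) (hnQ c (hCX hc)) fun a ha => ?_⟩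
    have h1 := (R.vec_eq_iff ha (hcQ c (hCX hc) a ha)).1 (h a ha).symm
    rw [show ⁅a, c⁆ = a * (c * a * c⁻¹)⁻¹ by rw [commutatorElement_def]; group]
    exact h1
  have hmul : ∀ c (hc : c ∈ C) d (hd : d ∈ C), ∀ a ∈ Q, R.vec ((c * d) * a * (c * d)⁻¹) = (l c hc * l d hd) • R.vec a := by
    intro c hc d hd a ha
    rw [show c * d * a * (c * d)⁻¹ = c * (d * a * d⁻¹) * c⁻¹ by group, hl c hc _ (hcQ d (hCX hd) a ha),
      hl d hd a ha, smul_smul]
  have hne : ∃ a ∈ Q, R.vec a 0 = 1 := by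
    obtain ⟨a, ha, h⟩ := R.vec_surj ![1, 0]
    exact ⟨a, ha, by rw [h]; rfl⟩
  have huniq : ∀ {k k' : K}, (∀ a ∈ Q, k • R.vec a = k' • R.vec a) → k = k' := by
    intro k k' h
    obtain ⟨a, ha, h1⟩ := hne
    simpa [h1] using congrFun (h a ha) 0
  have hcomm : ∀ c ∈ C, ∀ d ∈ C, ⁅c, d⁆ ∈ C₀ := by
    intro c hc d hd
    have hcd : ⁅c, d⁆ ∈ C := by
      rw [commutatorElement_def]; exact mul_mem (mul_mem (mul_mem hc hd) (inv_mem hc)) (inv_mem hd)
    refine hC₀mem _ hcd fun a ha => ?_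
    rw [commutatorElement_def, show c * d * c⁻¹ * d⁻¹ * a * (c * d * c⁻¹ * d⁻¹)⁻¹ =
      (c * d) * ((d * c)⁻¹ * a * (d * c)) * (c * d)⁻¹ by group]
    have ha' : (d * c)⁻¹ * a * (d * c) ∈ Q := by
      simpa using hcQ _ (inv_mem (hCX (mul_mem hd hc))) a ha
    rw [hmul c hc d hd _ ha', mul_comm, ← hmul d hd c hc _ ha']
    congr 1
    group
  set M := E ⊔ C₀ with hM
  have hC₀n : ∀ g ∈ normalizer (C : Set G), g ∈ normalizer (X : Set G) → g ∈ normalizer (C₀ : Set G) :=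
    fun g hgC hgX => Baumann.normalizer_inf_le _ _
      ⟨hgC, relCent_normalized (le_normalizer (hnQ g hgX)) (hnQ g hgX) (hnW g hgX)⟩
  have hMn : ∀ g, g ∈ normalizer (E : Set G) → g ∈ normalizer (C₀ : Set G) → g ∈ normalizer (M : Set G) :=
    fun g h1 h2 => CfsgLib.LocalEven.mem_normalizer_of_conj_le (le_of_eq_of_le (Subgroup.map_sup _ _ _)
      (sup_le_sup (mem_normalizer_iff_map_conj_eq.1 h1).le (mem_normalizer_iff_map_conj_eq.1 h2).le))
  have hCM : C ≤ normalizer (M : Set G) := fun c hc => hMn c (hCE hc) (hC₀n c (le_normalizer hc) (hCX hc))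
  have hMEC : M ≤ E ⊔ C := sup_le_sup_left inf_le_left E
  have hEM : E ≤ M := le_sup_left
  have hdec : ∀ f ∈ F, ∃ e ∈ E, ∃ c ∈ C, f = e * c := by
    intro f hf
    have h1 : f ∈ (↑(E ⊔ C) : Set G) := hle hf
    rw [coe_mul_of_right_le_normalizer_left E C hCE] at h1
    obtain ⟨e, he, c, hc, rfl⟩ := h1
    exact ⟨e, he, c, hc, rfl⟩
  have hMN : ∀ {g x : G}, g ∈ normalizer (M : Set G) → x ∈ M → g * x * g⁻¹ ∈ M := fun hg hx' =>
    (mem_normalizer_iff.1 hg _).1 hx'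
  have hEc : ∀ e ∈ E, ∀ c ∈ C, ⁅e, c⁆ ∈ M := fun e he c hc => by
    rw [commutatorElement_def, mul_assoc e c e⁻¹, mul_assoc e]
    exact mul_mem (hEM he) (hMN (hCM hc) (inv_mem (hEM he)))
  -- commutators
  have hFF : ∀ f ∈ F, ∀ g ∈ F, ⁅f, g⁆ ∈ M := by
    intro f hf g hg
    obtain ⟨e, he, c, hc, rfl⟩ := hdec f hf
    obtain ⟨e', he', c', hc', rfl⟩ := hdec g hg
    rw [show ⁅e * c, e' * c'⁆ = e * (⁅c, e'⁆ * (e' * ⁅c, c'⁆ * e'⁻¹)) * e⁻¹ * (⁅e, e'⁆ * (e' * ⁅e, c'⁆ * e'⁻¹)) by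
      simp only [commutatorElement_def]; group]
    have hn' : ∀ {x}, x ∈ E → x ∈ normalizer (M : Set G) := fun hx' => le_normalizer (hEM hx')
    refine mul_mem (hMN (hn' he) (mul_mem ?_ (hMN (hn' he') (mem_sup_right (hcomm c hc c' hc')))))
      (mul_mem ?_ (hMN (hn' he') (hEc e he c' hc')))
    · rw [← commutatorElement_inv]; exact inv_mem (hEc e' he' c hc)
    · rw [commutatorElement_def]; exact mul_mem (mul_mem (mul_mem (hEM he) (hEM he')) (inv_mem (hEM he))) (inv_mem (hEM he'))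
  have hFM : F ≤ normalizer (M : Set G) := fun f hf => hMn f (hFE hf) (hC₀n f (hFC hf) (hFX hf))
  have hder : ⁅F, F⁆ ≤ M := commutator_le.2 hFF
  have hQM : pCoreOf p F ≤ M := by
    rw [← hF.2.2.1]
    exact (commutator_mono (CfsgLib.LocalEven.pCoreOf_le p F) le_rfl).trans hder
  rcases perf_or_solv hF with hFp | ⟨s, hs⟩
  · intro f hf
    haveI := CfsgLib.Cores.pCore_characteristic (G := ↥F) p
    haveI := hFp.1.1
    have h1 : (QuotientGroup.mk ⟨f, hf⟩ : ↥F ⧸ pCore p ↥F) ∈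
        (commutator ↥F).map (QuotientGroup.mk' (pCore p ↥F)) := by
      rw [commutator_def, Subgroup.map_commutator, Subgroup.map_top_of_surjective _ (QuotientGroup.mk'_surjective _),
        ← commutator_def, Group.IsPerfect.commutator_eq_top]
      exact mem_top _
    obtain ⟨y, hy, hyf⟩ := h1
    have h2 : y⁻¹ * ⟨f, hf⟩ ∈ pCore p ↥F := QuotientGroup.eq.1 hyf
    have h3 : (y : G) ∈ M := hder (map_subtype_commutator F ▸ mem_map_of_mem F.subtype hy)
    have h4 : (y : G)⁻¹ * f ∈ M := hQM ⟨_, h2, rfl⟩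
    have h5 := mul_mem h3 h4
    rwa [mul_inv_cancel_left] at h5
  -- the solvable top
  have hp := hx.three
  have hzM : s * s ∈ M := by
    obtain ⟨a, ha, b, hb, hab⟩ := hs.noncomm hp
    have hc : ⁅a, b⁆ ∈ F := by
      rw [commutatorElement_def]; exact mul_mem (mul_mem (mul_mem ha hb) (inv_mem ha)) (inv_mem hb)
    have hcM := hFF a ha b hb
    rcases hs.quat hp _ hc with h | h | h
    · exact absurd h hab
    · have := mul_mem (inv_mem (hQM h)) hcM
      rwa [_root_.mul_inv_rev, inv_inv, inv_mul_cancel_right] at this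
    · have := mul_mem (inv_mem (hQM h)) (mul_mem hcM hcM)
      rwa [_root_.mul_inv_rev, inv_inv, inv_mul_cancel_right] at this
  have hsq : ∀ f ∈ F, f * f ∈ M := by
    intro f hf
    rcases hs.quat hp f hf with h | h | h
    · exact mul_mem (hQM h) (hQM h)
    · have := mul_mem (hQM h) hzM
      rw [inv_mul_cancel_right] at this
      exact mul_mem this this
    · have := mul_mem (hQM h) hzM
      rwa [inv_mul_cancel_right] at this
  rw [← hF.2.1, commutator_le]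
  intro f hf b hb
  obtain ⟨e, he, c, hc, rfl⟩ := hdec f hf
  have hbM : b ∈ normalizer (M : Set G) := hMn b (hBE hb) (hC₀n b (hBC hb) (hBX hb))
  -- the scalar of `c` is a sign
  have hcc : c * c ∈ C₀ := by
    have h1 := hsq _ hf
    have h2 : c * c ∈ M := by
      rw [show c * c = (c * e * c⁻¹)⁻¹ * (e⁻¹ * (e * c * (e * c))) by group]
      exact mul_mem (inv_mem (hMN (hCM hc) (hEM he))) (mul_mem (inv_mem (hEM he)) h1)
    have hC₀E : C₀ ≤ normalizer (E : Set G) := inf_le_left.trans hCE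
    have h3 : c * c ∈ (↑(E ⊔ C₀) : Set G) := h2
    rw [coe_mul_of_right_le_normalizer_left E C₀ hC₀E] at h3
    obtain ⟨x, hxE, y, hy, hxy⟩ := h3
    have hyC : y ∈ C := (Subgroup.mem_inf.1 hy).1
    have hxC : x ∈ C := by
      rw [show x = (c * c) * y⁻¹ by rw [← hxy]; group]
      exact mul_mem (mul_mem hc hc) (inv_mem hyC)
    have hxV : x ∈ pCore p G := hEC (Subgroup.mem_inf.2 ⟨hxE, hxC⟩)
    rw [← hxy]
    refine mul_mem (Subgroup.mem_inf.2 ⟨hxC, mem_stab_of_le (bW_le_core X) (hnQ x (hCX hxC)) fun a ha => ?_⟩) hy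
    exact hx.commutator_core_V hX (commutator_mem_commutator ha hxV)
  have hsign : l c hc * l c hc = 1 := huniq fun a ha => by
    rw [← hmul c hc c hc a ha, one_smul]
    have h1 := (Subgroup.mem_inf.1 hcc).2.2.2 a ha
    refine (R.vec_eq_iff (hcQ _ (hCX (mul_mem hc hc)) a ha) ha).2 ?_
    rw [show c * c * a * (c * c)⁻¹ * a⁻¹ = ⁅a, c * c⁆⁻¹ by rw [commutatorElement_inv, commutatorElement_def]]
    exact inv_mem h1
  have hbc : ⁅c, b⁆ ∈ M := by
    have hbX := hBX hb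
    have hcb : ⁅c, b⁆ ∈ C := by
      rw [commutatorElement_def, mul_assoc c b c⁻¹, mul_assoc c]
      exact mul_mem hc ((mem_normalizer_iff.1 (hBC hb) _).1 (inv_mem hc))
    refine mem_sup_right (hC₀mem _ hcb fun a ha => ?_)
    have hc' : b * c⁻¹ * b⁻¹ ∈ C := (mem_normalizer_iff.1 (hBC hb) _).1 (inv_mem hc)
    rw [show ⁅c, b⁆ = c * (b * c⁻¹ * b⁻¹) by rw [commutatorElement_def]; group, hmul c hc _ hc' a ha]
    have hlb : l _ hc' = l c hc := huniq fun a ha => by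
      rw [← hl _ hc' a ha]
      have hba : b⁻¹ * a * b ∈ Q := by simpa using hcQ _ (inv_mem hbX) a ha
      have hci : R.vec (c⁻¹ * (b⁻¹ * a * b) * c) = l c hc • R.vec (b⁻¹ * a * b) := by
        have hca : c⁻¹ * (b⁻¹ * a * b) * c ∈ Q := by simpa using hcQ _ (inv_mem (hCX hc)) _ hba
        have h1 := hl c hc _ hca
        rw [show c * (c⁻¹ * (b⁻¹ * a * b) * c) * c⁻¹ = b⁻¹ * a * b by group] at h1
        rw [h1, smul_smul, hsign, one_smul]
      obtain ⟨χ, hχ⟩ := R.exists_map (hnQ b hbX) (hnW b hbX)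
      rw [show b * c⁻¹ * b⁻¹ * a * (b * c⁻¹ * b⁻¹)⁻¹ = b * (c⁻¹ * (b⁻¹ * a * b) * c) * b⁻¹ by group,
        ← hχ _ (by simpa using hcQ _ (inv_mem (hCX hc)) _ hba), hci]
      have h2 : χ (R.vec (b⁻¹ * a * b)) = R.vec a := by
        rw [hχ _ hba]; congr 1; group
      rcases mul_self_eq_one_iff.1 hsign with h | h <;> rw [h]
      · rw [one_smul, h2, one_smul]
      · rw [neg_one_smul, map_neg, h2, neg_one_smul]
    rw [hlb, hsign, one_smul]
  rw [show ⁅e * c, b⁆ = e * ⁅c, b⁆ * e⁻¹ * ⁅e, b⁆ by simp only [commutatorElement_def]; group]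
  refine mul_mem (hMN (le_normalizer (hEM he)) hbc) ?_
  rw [commutatorElement_def, mul_assoc e b e⁻¹, mul_assoc e]
  exact mul_mem (hEM he) (hMN hbM (inv_mem (hEM he)))

end CfsgLib.LocalEven.BlockBaumann
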