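import Mathlib
import Cfsg.Agent.Lib.LocalEven.BlockBaumann.Conj
import Cfsg.Agent.Lib.LocalEven.BlockBaumann.Shrink

/-!
Arbitrary blocks next to a subnormal block.
-/

set_option autoImplicit false

namespace CfsgLib.LocalEven.BlockBaumann

open Subgroup Cfsg
open CfsgLib.LocalEven.SubBlock CfsgLib.LocalEven.BlockCentral
open scoped commutatorElement

variable {G : Type*} [Group G] [Finite G] {p : ℕ} [Fact p.Prime] {T S : Sylow p G} {E F : Subgroup G}

/-- A block centralising `W_E` centralises `E`. -/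
theorem commutator_eq_bot_of_centralizes (hG : centralizer (pCore p G : Set G) ≤ pCore p G)
    (hE : IsBaumannBlock p (S : Subgroup G) E) (hEs : E.IsSubnormal)
    (hF : IsBaumannBlock p (S : Subgroup G) F) (hFE : F ≤ normalizer (E : Set G))
    (h : ⁅bWE p E, F⁆ = ⊥) : ⁅E, F⁆ = ⊥ := by
  haveI := bA_normal (p := p) (G := G)
  have hFc : F ≤ cW p E := commutator_eq_bot_iff_le_centralizer.1 (by rw [commutator_comm]; exact h)
  have h1 : ⁅E, F⁆ ≤ pCoreOf p E := by
    rw [commutator_le]
    exact fun e he f hf => commutator_mem_core hE (hFc hf) (hFE hf) he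
  have hQV : pCoreOf p E ≤ pCore p G := core_le_pCore hEs
  have h2 : ⁅⁅bA p G, F⁆, E⁆ = ⊥ := by
    refine commutator_commutator_eq_bot_of_rotate ?_ ?_
    · rw [eq_bot_iff]
      refine (commutator_mono ((commutator_comm F E).le.trans (h1.trans hQV)) le_rfl).trans ?_
      rw [commutator_le]
      intro v hv a ha
      rw [mem_bot, commutatorElement_eq_one_iff_mul_comm]
      exact bA_central ha hv
    · rw [eq_bot_iff]
      refine (commutator_mono ((commutator_comm E (bA p G)).le.trans (commutator_bA_le hE)) le_rfl).trans ?_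
      exact h.le
  have hEc : E ≤ cW p F := by
    rw [cW, ← commutator_eq_bot_iff_le_centralizer, commutator_comm, eq_bot_iff, ← h2]
    exact commutator_mono ((bWE_commutator hF).ge.trans (commutator_mono (bWE_le_bA hG hF) le_rfl)) le_rfl
  have hEn : E ≤ normalizer (F : Set G) := hEc.trans (centralizer_bWE_le_normalizer hG hF)
  refine commutator_eq_bot_of_core hE hF (h1.trans hQV) ?_
  have hFZ : F ≤ normalizer (bZ p E : Set G) := hFE.trans (normalizer_le_bZ E)
  have hWF : ⁅bW p E, F⁆ ≤ bZ p E := by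
    rw [commutator_le]
    intro w hw f hf
    obtain ⟨x, hx, z, hz, rfl⟩ := exists_mul_of_sup (bWE_le E) ((bWE_sup hE).ge hw)
    rw [show ⁅x * z, f⁆ = x * ⁅z, f⁆ * x⁻¹ * ⁅x, f⁆ by simp only [commutatorElement_def]; group,
      commutatorElement_eq_one_iff_mul_comm.2 (mem_centralizer_iff.1 (hFc hf) x hx), mul_one]
    exact Baumann.conj_mem_of_le_normalizer (le_normalizer_bZ E) (bW_le E (bWE_le E hx))
      (CfsgLib.Solvable.commutator_le_of_le_normalizer hFZ (commutator_mem_commutator hz hf))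
  rcases core_eq_or_exc hE with hc | hx
  · rw [hc]; exact hWF
  have hle := shrink (E := (⊥ : Subgroup G)) (C := F) hE hx hF (by rw [normalizer_eq_top]; exact le_top)
    hFE h1 (bot_le.trans' inf_le_left) (by rw [normalizer_eq_top]; exact le_top) le_normalizer hFE
    (by rw [normalizer_eq_top]; exact le_top) (Block.baumann_le_normalizer hF) (Block.baumann_le_normalizer hE)
    le_sup_right
  rw [bot_sup_eq] at hle
  have h3 : ⁅pCoreOf p E, F⁆ ≤ bW p E := by
    rw [commutator_le]
    exact fun q hq f hf => (Subgroup.mem_inf.1 (hle hf)).2.2.2 q hq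
  exact commutator_le_of_coprime (isPGroup_bW E) hF.1 h3 hWF hFZ ((bW_le E).trans (le_normalizer_bZ E))

/-- `W_F ≤ W_E` for a block acting on `W_E`. -/
theorem bWE_le_bWE (hG : centralizer (pCore p G : Set G) ≤ pCore p G)
    (hE : IsBaumannBlock p (S : Subgroup G) E) (hF : IsBaumannBlock p (S : Subgroup G) F)
    (hFE : F ≤ normalizer (E : Set G)) (h : ⁅bWE p E, F⁆ ≠ ⊥) : bWE p F ≤ bWE p E := by
  set U := ⁅bWE p E, F⁆ with hU
  have hUE : U ≤ bWE p E := CfsgLib.Solvable.commutator_le_of_le_normalizer (hFE.trans (normalizer_le_bWE E))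
  have hUF : U ≤ bWE p F := (commutator_mono (bWE_le_bA hG hE) le_rfl).trans (commutator_bA_le hF)
  have hUn : F ≤ normalizer (U : Set G) := CfsgLib.Solvable.le_normalizer_commutator_right (hFE.trans (normalizer_le_bWE E))
  refine le_trans ?_ hUE
  rcases (BlockModule.isBlockModule_of_block hF).1 (U ⊔ bZ p F) le_sup_right
      (sup_le (hUF.trans (bWE_le F)) inf_le_left) (sup_bZ_normalized hUn) with h1 | h1
  · exfalso
    refine h (commutator_eq_bot_of_coprime (K := U) ((isPGroup_bW F).to_le (hUF.trans (bWE_le F))) hF.1 le_rfl ?_)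
    rw [commutator_eq_bot_iff_le_centralizer]
    exact le_sup_left.trans (h1.le.trans inf_le_right)
  · show ⁅bW p F, F⁆ ≤ U
    rw [commutator_le]
    intro x hx f hf
    obtain ⟨y, hy, z, hz, rfl⟩ := exists_mul_of_sup (hUF.trans (bWE_le F)) (h1.ge hx)
    rw [commutator_mul_bZ hz hf, commutatorElement_def, mul_assoc, mul_assoc]
    exact mul_mem hy (by simpa [mul_assoc] using Baumann.conj_mem_of_le_normalizer hUn hf (inv_mem hy))

/-- A `p'`-element of the kernels centralises `O_p(E)`. -/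
theorem centralizes_core (hX : IsBaumannBlock p (S : Subgroup G) E) {d : G} (hco : (orderOf d).Coprime p)
    (hd : d ∈ centralizer (bWE p E : Set G))
    (hx : Exc p (S : Subgroup G) E → d ∈ stab (pCoreOf p E) (bW p E)) :
    pCoreOf p E ≤ centralizer ({d} : Set G) := by
  intro q hq
  refine mem_centralizer_iff.2 fun y hy => ?_
  rw [Set.mem_singleton_iff.1 hy]
  rcases core_eq_or_exc hX with h | h
  · rw [← hX.2.2.1, h] at hq
    exact (mem_centralizer_iff.1 hd q hq).symm
  · have hW := centralizes_bW hX h hd (hx h)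
    refine (commutatorElement_eq_one_iff_mul_comm.1 (mem_bot.1 ?_)).symm
    refine comm_mem_of_coprime (isPGroup_bW E) hco ((hx h).2.2 q hq) (by rw [normalizer_eq_top]; exact mem_top d)
      (by rw [normalizer_eq_top]; exact le_top) fun k hk => ?_
    rw [mem_bot, commutatorElement_eq_one_iff_mul_comm]
    exact (mem_centralizer_iff.1 (hW hk) d rfl).symm

theorem exists_shrunk {H E F C : Subgroup G} (hH : IsBaumannBlock p (S : Subgroup G) H)
    (hF : IsBaumannBlock p (S : Subgroup G) F)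
    (hCE : C ≤ normalizer (E : Set G)) (hCX : C ≤ normalizer (H : Set G)) (hXC : ⁅H, C⁆ ≤ pCoreOf p H)
    (hEC : E ⊓ C ≤ pCore p G)
    (hFE : F ≤ normalizer (E : Set G)) (hFC : F ≤ normalizer (C : Set G)) (hFX : F ≤ normalizer (H : Set G))
    (hBE : baumannSubgroupOf p (S : Subgroup G) ≤ normalizer (E : Set G))
    (hBC : baumannSubgroupOf p (S : Subgroup G) ≤ normalizer (C : Set G))
    (hle : F ≤ E ⊔ C) :
    ∃ C' ≤ C, F ≤ E ⊔ C' ∧ F ≤ normalizer (C' : Set G) ∧
      baumannSubgroupOf p (S : Subgroup G) ≤ normalizer (C' : Set G) ∧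
      (Exc p (S : Subgroup G) H → C' ≤ stab (pCoreOf p H) (bW p H)) := by
  by_cases hx : Exc p (S : Subgroup G) H
  swap
  · exact ⟨C, le_rfl, hle, hFC, hBC, fun h => absurd h hx⟩
  have hn : ∀ K : Subgroup G, K ≤ normalizer (C : Set G) → K ≤ normalizer (H : Set G) →
      K ≤ normalizer ((C ⊓ stab (pCoreOf p H) (bW p H) : Subgroup G) : Set G) := fun K h1 h2 k hk =>
    Baumann.normalizer_inf_le _ _ ⟨h1 hk, relCent_normalized (le_normalizer (Block.normalizer_le_pCoreOf H (h2 hk)))
      (Block.normalizer_le_pCoreOf H (h2 hk)) (normalizer_le_bW H (h2 hk))⟩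
  exact ⟨_, inf_le_left, shrink hH hx hF hCE hCX hXC hEC hFE hFC hFX hBE hBC (Block.baumann_le_normalizer hH) hle,
    hn F hFC hFX, hn _ hBC (Block.baumann_le_normalizer hH), fun _ => inf_le_right⟩

/-- A block acting on `W_E` like a subgroup of `E` lies in `E`. -/
theorem le_of_inner (hG : centralizer (pCore p G : Set G) ≤ pCore p G)
    (hE : IsBaumannBlock p (S : Subgroup G) E) (hEs : E.IsSubnormal)
    (hF : IsBaumannBlock p (S : Subgroup G) F) (hFE : F ≤ normalizer (E : Set G))
    (h : ⁅bWE p E, F⁆ ≠ ⊥) (hout : F ≤ E ⊔ (normalizer (E : Set G) ⊓ cW p E)) : F ≤ E := by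
  haveI := normal_pCore' (p := p) (G := G)
  have hW := bWE_le_bWE hG hE hF hFE h
  set C := normalizer (E : Set G) ⊓ cW p E with hC
  have hCc : C ≤ cW p E := inf_le_right
  have hCF : C ≤ cW p F := hCc.trans (centralizer_le (SetLike.coe_subset_coe.2 hW))
  have hCnE : C ≤ normalizer (E : Set G) := inf_le_left
  have hCnF : C ≤ normalizer (F : Set G) := hCF.trans (centralizer_bWE_le_normalizer hG hF)
  have hNC : ∀ K : Subgroup G, K ≤ normalizer (E : Set G) → K ≤ normalizer (C : Set G) := fun K hK k hk =>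
    Baumann.normalizer_inf_le _ _ ⟨le_normalizer (hK hk), normalizer_le_cW (hK hk)⟩
  have hBE := Block.baumann_le_normalizer hE
  have hEC : E ⊓ C ≤ pCore p G := fun x hx =>
    core_le_pCore hEs (cW_inf_le hE (Subgroup.mem_inf.1 hx).1 (hCc (Subgroup.mem_inf.1 hx).2))
  have hXC : ∀ C' : Subgroup G, C' ≤ C → ⁅E, C'⁆ ≤ pCoreOf p E := fun C' hle => commutator_le.2 fun e he c hc =>
    commutator_mem_core hE (hCc (hle hc)) (hCnE (hle hc)) he
  have hFC' : ∀ C' : Subgroup G, C' ≤ C → ⁅F, C'⁆ ≤ pCoreOf p F := fun C' hle => commutator_le.2 fun f hf c hc =>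
    commutator_mem_core hF (hCF (hle hc)) (hCnF (hle hc)) hf
  obtain ⟨C₁, hC₁, hle₁, hF₁, hB₁, hs₁⟩ := exists_shrunk hE hF hCnE hCnE (hXC C le_rfl) hEC hFE
    (hNC F hFE) hFE hBE (hNC _ hBE) hout
  obtain ⟨C₂, hC₂, hle₂, -, -, hs₂⟩ := exists_shrunk hF hF (hC₁.trans hCnE) (hC₁.trans hCnF)
    (hFC' C₁ hC₁) ((inf_le_inf_left E hC₁).trans hEC) hFE hF₁ le_normalizer hBE hB₁ hle₁
  set D := C₂ ⊓ (E ⊔ F) with hD
  have hQn : pCoreOf p F ≤ normalizer (pCoreOf p E : Set G) :=
    (CfsgLib.LocalEven.pCoreOf_le p F).trans (hFE.trans (Block.normalizer_le_pCoreOf E))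
  set K := pCoreOf p E ⊔ pCoreOf p F with hK
  have hKp : IsPGroup p ↥K := (CfsgLib.LocalEven.isPGroup_pCoreOf p E).to_sup_of_normal_left'
    (CfsgLib.LocalEven.isPGroup_pCoreOf p F) hQn
  have hDp : IsPGroup p ↥D := by
    refine isPGroup_of_coprime_eq_one fun d hd hco => ?_
    obtain ⟨hd2, hdEF⟩ := Subgroup.mem_inf.1 hd
    have hdC : d ∈ C := hC₁ (hC₂ hd2)
    have hcE := centralizes_core hE hco (hCc hdC) fun hx => hs₁ hx (hC₂ hd2)
    have hcF := centralizes_core hF hco (hCF hdC) fun hx => hs₂ hx hd2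
    refine eq_one_of_pElem_coprime (CfsgLib.Cores.isPGroup_pCore p (G := G)) (hG ?_) hco
    refine mem_centralizer_iff.2 fun v hv => commutatorElement_eq_one_iff_mul_comm.1 (mem_bot.1 ?_)
    have hKc : K ≤ centralizer ({d} : Set G) := sup_le hcE hcF
    have hvK : ⁅v, d⁆ ∈ K := by
      have h1 : d ∈ (↑(F ⊔ E) : Set G) := by rw [sup_comm]; exact hdEF
      rw [coe_mul_of_left_le_normalizer_right F E hFE] at h1
      obtain ⟨f, hf, e, he, rfl⟩ := h1
      rw [show ⁅v, f * e⁆ = ⁅v, f⁆ * (f * ⁅v, e⁆ * f⁻¹) by simp only [commutatorElement_def]; group]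
      refine mul_mem (mem_sup_right (commutator_V_le_core hF (commutator_mem_commutator hv hf))) (mem_sup_left ?_)
      exact (mem_normalizer_iff.1 (Block.normalizer_le_pCoreOf E (hFE hf)) _).1
        (commutator_V_le_core hE (commutator_mem_commutator hv he))
    refine comm_mem_of_coprime hKp hco hvK (by rw [normalizer_eq_top]; exact mem_top d)
      (by rw [normalizer_eq_top]; exact le_top) fun k hk => ?_
    rw [mem_bot, commutatorElement_eq_one_iff_mul_comm]
    exact (mem_centralizer_iff.1 (hKc hk) d rfl).symm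
  have hDn : D ≤ normalizer (E : Set G) := (inf_le_left.trans (hC₂.trans hC₁)).trans hCnE
  have hFD : F ≤ E ⊔ D := by
    intro f hf
    have h1 : f ∈ (↑(E ⊔ C₂) : Set G) := hle₂ hf
    rw [coe_mul_of_right_le_normalizer_left E C₂ ((hC₂.trans hC₁).trans hCnE)] at h1
    obtain ⟨e, he, c, hc, hec⟩ := h1
    rw [← hec]
    refine mul_mem (mem_sup_left he) (mem_sup_right (Subgroup.mem_inf.2 ⟨hc, ?_⟩))
    rw [show c = e⁻¹ * f by rw [← hec]; group]
    exact mul_mem (mem_sup_left (inv_mem he)) (mem_sup_right hf)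
  conv_lhs => rw [← hF.1]
  refine (Baumann.pResidualOf_le_iff.2 fun f hf hco => ?_)
  exact (Block.pResidualOf_sup_eq hDp hDn hE.1).le (Baumann.pResidualOf_le_iff.1 le_rfl f (hFD hf) hco)

end CfsgLib.LocalEven.BlockBaumann
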