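import Mathlib
import Cfsg.Agent.Lib.LocalEven.BlockBaumann.LinearSemi
import Cfsg.Agent.Lib.LocalEven.BlockBaumann.Replace
import Cfsg.Agent.Lib.LocalEven.BlockBaumann.Other

/-!
Linear blocks admit only inner automorphisms from other blocks.
-/

set_option autoImplicit false

namespace CfsgLib.LocalEven.BlockBaumann

open Subgroup Cfsg
open CfsgLib.LocalEven.SubBlock CfsgLib.LocalEven.BlockCentral
open SemiLin (dt)
open scoped commutatorElement

variable {G : Type*} [Group G] [Finite G] {p : ℕ} [Fact p.Prime] {S : Sylow p G} {E F : Subgroup G}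
variable {K : Type} [Field K] [Fintype K]

theorem Perf_le_commutator_sup (hF : Perf p F) : F ≤ ⁅F, F⁆ ⊔ pCoreOf p F := by
  haveI := CfsgLib.Cores.pCore_characteristic (G := ↥F) p
  obtain ⟨⟨hperf, -⟩, -⟩ := hF
  intro x hx
  have h1 : QuotientGroup.mk' (pCore p ↥F) ⟨x, hx⟩ ∈ (commutator ↥F).map (QuotientGroup.mk' (pCore p ↥F)) := by
    rw [commutator_def, Subgroup.map_commutator, ← MonoidHom.range_eq_map,
      MonoidHom.range_eq_top.2 (QuotientGroup.mk'_surjective _), ← commutator_def, hperf.commutator_eq_top]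
    exact mem_top _
  obtain ⟨c, hc, hcx⟩ := Subgroup.mem_map.1 h1
  rw [QuotientGroup.mk'_eq_mk'] at hcx
  obtain ⟨z, hz, hzx⟩ := hcx
  have hcG : (c : G) ∈ ⁅F, F⁆ := by
    rw [← F.map_subtype_commutator]
    exact ⟨c, hc, rfl⟩
  have hzG : (z : G) ∈ pCoreOf p F := ⟨z, hz, rfl⟩
  rw [show x = (c : G) * z from (congrArg Subtype.val hzx).symm]
  exact mul_mem (mem_sup_left hcG) (mem_sup_right hzG)

/-- For `p = 2` a solvable block has the core `[W_F, F]`. -/
theorem Solv.core_eq (hp2 : p = 2) (hF : IsBaumannBlock p (S : Subgroup G) F) : pCoreOf p F = bWE p F := by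
  obtain ⟨-, -, h3, -, hcases⟩ := id hF
  have hW : pCoreOf p F = bW p F := by
    rcases hcases with ⟨L, _, _, n, -, -, -, h | ⟨h, -⟩⟩ | ⟨-, m, -, -, h⟩
    · exact h
    · omega
    · exact h
  conv_lhs => rw [← h3, hW]

variable {R : Rep p K E (bW p E) (bZ p E)}

/-- No element of a small block induces a map of determinant different from one. -/
theorem det_eq_one_of_small (hG : centralizer (pCore p G : Set G) ≤ pCore p G)
    (hE : IsBaumannBlock p (S : Subgroup G) E) (h4 : 4 ≤ Fintype.card K) {n : ℕ} (hn : Fintype.card K = p ^ n)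
    (hF : IsBaumannBlock p (S : Subgroup G) F) (hFE : F ≤ normalizer (E : Set G)) {s : G} (hs : Solv p F s)
    (hp2 : p = 2) (hQ : pCoreOf p F ≤ detPart R h4) (hne : ⁅bWE p E, F⁆ ≠ ⊥) {f : G} (hf : f ∈ F) {ω : K}
    (hω : Semi R f ω (RingHom.id K)) : ω = 1 := by
  classical
  by_contra hω1
  haveI := CfsgLib.Cores.pCore_characteristic (G := ↥F) p
  have h3 : Nat.card (↥F ⧸ pCore p ↥F) = 3 := by
    rcases hs.type with ⟨-, h⟩ | ⟨h, -⟩
    · exact h
    · omega
  have hfN := hFE hf
  have hω0 : ω ≠ 0 := hω.ne_zero (normalizer_le_bW E hfN)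
  -- characteristic two
  have h2K : (2 : K) = 0 := by
    have h0 : ((Fintype.card K : ℕ) : K) = 0 := FiniteField.cast_card_eq_zero K
    rw [hn, hp2, Nat.cast_pow] at h0
    exact pow_eq_zero_iff (fun h => by rw [h, pow_zero] at hn; omega) |>.1 h0
  have hsq : ∀ x : K, x * x = 1 → x = 1 := fun x hx => by
    rcases mul_self_eq_one_iff.1 hx with h | h
    · exact h
    · rw [h]; linear_combination -h2K
  -- `ω ^ 3 = 1`
  have hω3 : ω * ω * ω = 1 := by
    have h1 : (f * f * f) ∈ pCoreOf p F := by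
      refine ⟨⟨f, hf⟩ * ⟨f, hf⟩ * ⟨f, hf⟩, (QuotientGroup.eq_one_iff _).1 ?_, rfl⟩
      rw [QuotientGroup.mk_mul, QuotientGroup.mk_mul, ← pow_two, ← pow_succ, show (2 : ℕ) + 1 = 3 from rfl, ← h3]
      exact pow_card_eq_one'
    have h2 := (hω.mul (normalizer_le_bW E hfN) hω).mul (normalizer_le_bW E hfN) hω
    simp only [RingHom.id_apply, RingHom.comp_id] at h2
    exact ((hQ h1).2.unique one_ne_zero h2).1.symm
  -- `F / O_p(F)` is detected by the determinant
  have hdetF : ∀ h ∈ F, h ∈ detPart R h4 → h ∈ pCoreOf p F := by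
    intro h hh hd
    by_contra hhQ
    haveI : Fact (Nat.Prime 3) := ⟨Nat.prime_three⟩
    have hne1 : (QuotientGroup.mk (⟨h, hh⟩ : ↥F) : ↥F ⧸ pCore p ↥F) ≠ 1 := fun h1 =>
      hhQ ⟨_, (QuotientGroup.eq_one_iff _).1 h1, rfl⟩
    have htop : zpowers (QuotientGroup.mk (⟨h, hh⟩ : ↥F) : ↥F ⧸ pCore p ↥F) = ⊤ :=
      zpowers_eq_top_of_prime_card h3 hne1
    obtain ⟨k, hk⟩ := mem_zpowers_iff.1
      (htop.symm ▸ mem_top (QuotientGroup.mk (⟨f, hf⟩ : ↥F) : ↥F ⧸ pCore p ↥F))
    rw [← QuotientGroup.mk_zpow, QuotientGroup.eq] at hk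
    have h1 : (h ^ k)⁻¹ * f ∈ pCoreOf p F := ⟨_, hk, rfl⟩
    have h2 := mul_mem (zpow_mem hd k) (hQ h1)
    rw [mul_inv_cancel_left] at h2
    exact hω1 (hω.unique hω0 h2.2).1
  obtain ⟨χ, hχ, -, hd, hlin⟩ := hω.exists_map (normalizer_le_bW E hfN) (normalizer_le_bZ E hfN)
  simp only [RingHom.id_apply] at hd hlin
  -- the image of `χ - 1` is small
  have hle : ∀ w ∈ bWE p E, ⁅w, f⁆ ∈ bWE p F := fun w hw =>
    commutator_bA_le hF (commutator_mem_commutator (bWE_le_bA hG hE hw) hf)
  have hsub := bWE_le_bWE hG hE hF hFE hne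
  have him : ∀ v, ∃ y : ↥(bWE p F), v - χ v = R.vec (y : G) := by
    intro v
    obtain ⟨a, ha, rfl⟩ := R.vec_surj v
    obtain ⟨w, hw, z, hz, rfl⟩ := exists_mul_of_sup (bWE_le E) ((bWE_sup hE).ge ha)
    have hw' := bWE_le E hw
    have hv : R.vec (w * z) = R.vec w := by
      rw [R.vec_mul w hw' z hz.1, (R.vec_eq_zero z hz.1).2 hz, add_zero]
    refine ⟨⟨_, hle w hw⟩, ?_⟩
    show R.vec (w * z) - χ (R.vec (w * z)) = R.vec ⁅w, f⁆
    rw [hv, hχ w hw', show ⁅w, f⁆ = w * (f * w⁻¹ * f⁻¹) by rw [commutatorElement_def]; group,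
      R.vec_mul w hw' _ ((mem_normalizer_iff.1 (normalizer_le_bW E hfN) _).1 (inv_mem hw')),
      show f * w⁻¹ * f⁻¹ = (f * w * f⁻¹)⁻¹ by group,
      R.vec_inv ((mem_normalizer_iff.1 (normalizer_le_bW E hfN) _).1 hw'), sub_eq_add_neg]
  choose img himg using him
  have hcard4 : Nat.card ↥(bWE p F) = 4 := by rw [hs.card_bWE hF, hp2]; norm_num
  -- a fixed vector
  obtain ⟨v₁, hv₁0, hv₁⟩ : ∃ v, v ≠ 0 ∧ χ v = v := by
    by_contra hc
    push Not at hc
    have hi : Function.Injective img := fun u v huv => by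
      by_contra hne'
      have h1 : u - χ u = v - χ v := by rw [himg, himg, huv]
      refine hc (u - v) (sub_ne_zero.2 hne') ?_
      rw [map_sub]
      linear_combination (norm := module) -h1
    have h1 := Nat.card_le_card_of_injective img hi
    rw [hcard4, Nat.card_eq_fintype_card, Fintype.card_fun, Fintype.card_fin] at h1
    nlinarith
  obtain ⟨w, hw⟩ := SemiLin.exists_dt_ne hv₁0
  set c := dt (χ w) w / dt v₁ w with hc
  have hχw : χ w = c • v₁ + ω • w := by
    have h1 := hd v₁ w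
    rw [hv₁] at h1
    conv_lhs => rw [SemiLin.cramer hw (χ w)]
    rw [h1, mul_div_assoc, div_self hw, mul_one]
  set y := c • v₁ + (ω - 1) • w with hy
  have hχy : χ y = ω • y := by
    rw [hy, map_add, hlin, hlin, hv₁, hχw]
    module
  have hdy : dt v₁ y ≠ 0 := by
    rw [show dt v₁ y = (ω - 1) * dt v₁ w by simp [hy, dt]; ring]
    exact mul_ne_zero (sub_ne_zero.2 hω1) hw
  have hy0 : y ≠ 0 := by rintro h; rw [h] at hdy; simp [dt] at hdy
  have hK4 : Fintype.card K = 4 := by
    refine le_antisymm ?_ h4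
    have hi : Function.Injective fun x : K => img (x • w) := fun a b hab => by
      have h1 : a • w - χ (a • w) = b • w - χ (b • w) := by rw [himg, himg, show img (a • w) = img (b • w) from hab]
      rw [hlin, hlin, hχw] at h1
      have h2 : (a - b) • y = 0 := by rw [hy]; linear_combination (norm := module) -h1
      exact sub_eq_zero.1 ((smul_eq_zero.1 h2).resolve_right hy0)
    have h1 := Nat.card_le_card_of_injective _ hi
    rwa [hcard4, Nat.card_eq_fintype_card] at h1
  have helems : ∀ x : K, x = 0 ∨ x = 1 ∨ x = ω ∨ x = ω * ω := fun x => by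
    by_cases hx : x = 0
    · exact Or.inl hx
    refine Or.inr ?_
    have hx3 : x * x * x = 1 := by
      have := FiniteField.pow_card_sub_one_eq_one x hx
      rw [hK4] at this
      linear_combination this
    have h1 : (ω - 1) * (ω * ω + ω + 1) = 0 := by linear_combination hω3
    have h2 := (mul_eq_zero.1 h1).resolve_left (sub_ne_zero.2 hω1)
    have h5 : (x - 1) * ((x - ω) * (x - ω * ω)) = 0 := by linear_combination hx3 + (x - 1) * hω3 - (x - 1) * x * h2
    rcases mul_eq_zero.1 h5 with h | h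
    · exact Or.inl (sub_eq_zero.1 h)
    rcases mul_eq_zero.1 h with h | h
    · exact Or.inr (Or.inl (sub_eq_zero.1 h))
    · exact Or.inr (Or.inr (sub_eq_zero.1 h))
  have hfield : ∀ σ : K →+* K, σ ω = ω → σ = RingHom.id K := fun σ h => RingHom.ext fun x => by
    rcases helems x with rfl | rfl | rfl | rfl <;> simp [h]
  have hmove : ∀ σ : K →+* K, σ ω ≠ ω → σ ω = ω * ω := fun σ h => by
    rcases helems (σ ω) with h' | h' | h' | h'
    · exact absurd ((map_eq_zero σ).1 h') hω0
    · exact absurd (σ.injective (h'.trans (map_one σ).symm)) hω1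
    · exact absurd h' h
    · exact h'
  -- an offender
  have hBE := Block.baumann_le_normalizer hE
  have hBF := Block.baumann_le_normalizer hF
  obtain ⟨A, hA, hAJ, hAc⟩ : ∃ A ∈ maxElementaryAbelianSubgroups p G,
      A ≤ thompsonSubgroupOf p (S : Subgroup G) ∧ ¬ A ≤ centralizer (bWE p E : Set G) := by
    obtain ⟨A₀, hA₀, hA₀S⟩ := CfsgLib.Transfer.exists_maxEA_le_sylow S
    by_contra hc
    push Not at hc
    refine (Block.block_position hG hE).2.2 ?_
    have hJ : thompsonSubgroupOf p (S : Subgroup G) ≤ centralizer (bWE p E : Set G) := by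
      refine map_le_iff_le_comap.2 (sSup_le fun B hB => map_le_iff_le_comap.1 ?_)
      exact hc _ (CfsgLib.Transfer.maxEA_map_subtype hA₀ hA₀S hB) (map_mono (le_sSup hB))
    rw [commutator_comm, commutator_eq_bot_iff_le_centralizer]
    exact hJ
  have hAB : A ≤ baumannSubgroupOf p (S : Subgroup G) := hAJ.trans (Baumann.thompson_le_baumann _)
  have hAE : A ≤ normalizer (E : Set G) := hAB.trans hBE
  set W := bWE p E with hWdef
  have hWel : IsElementaryAbelian p W :=
    CfsgLib.PGroup.elemAb_mono (CfsgLib.LocalEven.Oz.elemAb (p := p) (pCoreOf p E)) (bWE_le E)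
  set A₁ := A ⊓ centralizer (W : Set G) with hA₁
  -- elements fixing the field centralise
  have hlinA : ∀ a ∈ A, ∀ D : K, Semi R a D (RingHom.id K) → a ∈ A₁ := by
    intro a ha D hD
    have haN := hAE ha
    obtain ⟨μ, hμ, -, -, hμl⟩ := hD.exists_map (normalizer_le_bW E haN) (normalizer_le_bZ E haN)
    simp only [RingHom.id_apply] at hμl
    have hinv : ∀ v, μ (μ v) = v := fun v => by
      obtain ⟨x, hx, rfl⟩ := R.vec_surj v
      rw [hμ x hx, hμ _ ((mem_normalizer_iff.1 (normalizer_le_bW E haN) x).1 hx)]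
      congr 1
      have hexp : a ^ p = 1 := hA.1.2 a ha
      have haa : a * a = 1 := by rw [← pow_two, ← hexp, hp2]
      rw [show a * (a * x * a⁻¹) * a⁻¹ = (a * a) * x * (a * a)⁻¹ by group, haa, inv_one, mul_one, one_mul]
    have hconj : a * f * a⁻¹ ∈ F := (mem_normalizer_iff.1 (hBF (hAB ha)) f).1 hf
    have hQh : a * f * a⁻¹ * f⁻¹ ∈ pCoreOf p F := by
      refine hdetF _ (mul_mem hconj (inv_mem hf)) ⟨mul_mem (hFE hconj) (inv_mem hfN), ?_⟩
      have h1 := hω.conj h4 haN hfN hD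
      obtain ⟨D', σ', h', e1, e2⟩ := exists_semi_inv h4 hfN hω
      obtain rfl : σ' = RingHom.id K := RingHom.ext e2
      have h2 := h1.mul (normalizer_le_bW E (inv_mem hfN)) h'
      simp only [RingHom.id_apply, RingHom.comp_id] at h2 e1
      rwa [e1] at h2
    have hcomm : ∀ v, μ (χ v) = χ (μ v) := fun v => by
      obtain ⟨x, hx, rfl⟩ := R.vec_surj v
      have hfx := (mem_normalizer_iff.1 (normalizer_le_bW E hfN) x).1 hx
      have hax := (mem_normalizer_iff.1 (normalizer_le_bW E haN) x).1 hx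
      rw [hχ x hx, hμ x hx, hμ _ hfx, hχ _ hax]
      congr 1
      have hhW : a * f * a⁻¹ * f⁻¹ ∈ bW p E := bWE_le E (hsub ((Solv.core_eq hp2 hF).le hQh))
      have hfax := (mem_normalizer_iff.1 (normalizer_le_bW E hfN) _).1 hax
      calc a * (f * x * f⁻¹) * a⁻¹
          = (a * f * a⁻¹ * f⁻¹) * (f * (a * x * a⁻¹) * f⁻¹) * (a * f * a⁻¹ * f⁻¹)⁻¹ := by group
        _ = _ := by rw [bW_comm hhW hfax, mul_inv_cancel_right]
    have hm1 : μ v₁ = v₁ := by
      have h1 := SemiLin.cramer hdy (μ v₁)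
      set x := dt (μ v₁) y / dt v₁ y with hx
      set z := dt v₁ (μ v₁) / dt v₁ y with hz
      have h2 : μ (χ v₁) = χ (μ v₁) := hcomm v₁
      rw [hv₁, h1, map_add, hlin, hlin, hv₁, hχy] at h2
      have hz0 : z = 0 := by
        have h3 := congrArg (dt v₁) h2
        simp [dt] at h3
        have h5 : z * (ω - 1) * dt v₁ y = 0 := by rw [dt]; linear_combination -h3
        simpa [sub_eq_zero, hω1, hdy] using h5
      rw [hz0, zero_smul, add_zero] at h1
      have h3 := hinv v₁
      rw [h1, hμl, h1, smul_smul] at h3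
      have h5 := congrArg (fun u => dt u y) h3
      simp only [SemiLin.dt_smul_left] at h5
      rw [h1, hsq x (mul_right_cancel₀ hdy (h5.trans (one_mul _).symm)), one_smul]
    have hm2 : μ y = y := by
      have h1 := SemiLin.cramer hdy (μ y)
      set x := dt (μ y) y / dt v₁ y with hx
      set z := dt v₁ (μ y) / dt v₁ y with hz
      have h2 : μ (χ y) = χ (μ y) := hcomm y
      rw [hχy, hμl, h1, map_add, hlin, hlin, hv₁, hχy] at h2
      have hx0 : x = 0 := by
        have h3 := congrArg (fun u => dt u y) h2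
        simp [dt] at h3
        have h5 : x * (ω - 1) * dt v₁ y = 0 := by rw [dt]; linear_combination h3
        simpa [sub_eq_zero, hω1, hdy] using h5
      rw [hx0, zero_smul, zero_add] at h1
      have h3 := hinv y
      rw [h1, hμl, h1, smul_smul] at h3
      have h5 := congrArg (dt v₁) h3
      simp only [SemiLin.dt_smul_right] at h5
      rw [h1, hsq z (mul_right_cancel₀ hdy (h5.trans (one_mul _).symm)), one_smul]
    refine ⟨ha, centralizes_of_modZ hE haN fun u hu => ?_⟩
    have hu' := bWE_le E hu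
    have hau := (mem_normalizer_iff.1 (normalizer_le_bW E haN) u).1 hu'
    have hv : R.vec (a * u * a⁻¹) = R.vec u := by
      rw [← hμ u hu']
      conv_lhs => rw [SemiLin.cramer hdy (R.vec u), map_add, hμl, hμl, hm1, hm2]
      exact (SemiLin.cramer hdy (R.vec u)).symm
    rw [commutatorElement_def]
    exact (Subgroup.mem_inf.1 ((R.vec_eq_iff hau hu').1 hv)).2
  -- the index of `A₁`
  obtain ⟨a₀, ha₀, ha₀c⟩ := SetLike.not_le_iff_exists.1 hAc
  obtain ⟨D₀, σ₀, -, hS₀⟩ := exists_semi_of_normalizer (R := R) h4 (hAE ha₀)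
  have hσ₀ : σ₀ ω ≠ ω := fun h => ha₀c (Subgroup.mem_inf.1 (hlinA a₀ ha₀ D₀ (hfield _ h ▸ hS₀))).2
  have hpair : ∀ a ∈ A, a ∉ A₁ → a₀ * a ∈ A₁ := by
    intro a ha hac
    obtain ⟨D, σ, -, hS⟩ := exists_semi_of_normalizer (R := R) h4 (hAE ha)
    have hσ : σ ω ≠ ω := fun h => hac (hlinA a ha D (hfield _ h ▸ hS))
    have h1 : (σ₀.comp σ) ω = ω := by
      rw [RingHom.comp_apply, hmove σ hσ, map_mul, hmove σ₀ hσ₀]
      linear_combination ω * hω3
    exact hlinA _ (mul_mem ha₀ ha) (D₀ * σ₀ D) (hfield _ h1 ▸ hS₀.mul (normalizer_le_bW E (hAE ha)) hS)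
  have hcardA : Nat.card ↥A ≤ 2 * Nat.card ↥A₁ := by
    let e : ↥A → Bool × ↥A₁ := fun a =>
      if h : (a : G) ∈ A₁ then (true, ⟨a, h⟩) else (false, ⟨a₀ * a, hpair a a.2 h⟩)
    have he : Function.Injective e := by
      intro a b hab
      by_cases h1 : (a : G) ∈ A₁ <;> by_cases h2 : (b : G) ∈ A₁ <;>
        simp only [e, dif_pos, dif_neg, h1, h2, not_false_eq_true, Prod.mk.injEq, Subtype.mk.injEq,
          reduceCtorEq, false_and, true_and, mul_right_inj] at hab
      exacts [Subtype.ext hab, Subtype.ext hab]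
    have := Nat.card_le_card_of_injective e he
    simpa [Nat.card_prod, Nat.card_eq_fintype_card (α := Bool)] using this
  -- fixed points
  obtain ⟨ξ, hξ, -, -, hξl⟩ :=
    hS₀.exists_map (normalizer_le_bW E (hAE ha₀)) (normalizer_le_bZ E (hAE ha₀))
  have hΦ : Nat.card {v : Fin 2 → K // ξ v = v} ≤ 4 := by
    have := SemiLin.card_fixed_le hξl hσ₀
    rw [hK4] at this
    nlinarith
  set C := W ⊓ centralizer (A : Set G) with hC
  set Z₀ := W ⊓ bZ p E with hZ₀
  let toV : ↥W →* Multiplicative (Fin 2 → K) := MonoidHom.mk' (fun u => Multiplicative.ofAdd (R.vec (u : G)))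
    fun a b => by rw [← ofAdd_add, ← R.vec_mul _ (bWE_le E a.2) _ (bWE_le E b.2)]; rfl
  have hker : toV.ker = Z₀.subgroupOf W := by
    ext u
    rw [MonoidHom.mem_ker, mem_subgroupOf, hZ₀, Subgroup.mem_inf]
    exact ⟨fun h => ⟨u.2, (R.vec_eq_zero _ (bWE_le E u.2)).1 h⟩,
      fun h => (R.vec_eq_zero _ (bWE_le E u.2)).2 h.2⟩
  have hsurj : Function.Surjective toV := fun v => by
    obtain ⟨a, ha, hav⟩ := R.vec_surj (Multiplicative.toAdd v)
    obtain ⟨u, hu, z, hz, rfl⟩ := exists_mul_of_sup (bWE_le E) ((bWE_sup hE).ge ha)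
    refine ⟨⟨u, hu⟩, ?_⟩
    rw [R.vec_mul u (bWE_le E hu) z hz.1, (R.vec_eq_zero z hz.1).2 hz, add_zero] at hav
    exact congrArg Multiplicative.ofAdd hav
  have hZcard : Nat.card ↥(Z₀.subgroupOf W) = Nat.card ↥Z₀ :=
    Nat.card_congr (subgroupOfEquivOfLe (inf_le_left : Z₀ ≤ W)).toEquiv
  have hWcard : Nat.card ↥W = 16 * Nat.card ↥Z₀ := by
    rw [← toV.ker.index_mul_card, index_ker, MonoidHom.range_eq_top.2 hsurj, Subgroup.card_top, hker,
      hZcard, Nat.card_congr Multiplicative.toAdd,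
      Nat.card_eq_fintype_card, Fintype.card_fun, Fintype.card_fin, hK4]
    norm_num
  have hCcard : Nat.card ↥C ≤ 4 * Nat.card ↥Z₀ := by
    set φ := toV.comp (Subgroup.inclusion (inf_le_left : C ≤ W)) with hφ
    rw [← φ.ker.index_mul_card, index_ker]
    refine Nat.mul_le_mul (le_trans ?_ hΦ) ?_
    · refine Nat.card_le_card_of_injective
        (fun v => ⟨Multiplicative.toAdd (v : Multiplicative (Fin 2 → K)), ?_⟩) fun a b hab => ?_
      · obtain ⟨u, hu⟩ := MonoidHom.mem_range.1 v.2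
        rw [← hu]
        show ξ (R.vec (u : G)) = R.vec (u : G)
        rw [hξ _ (bWE_le E (Subgroup.mem_inf.1 u.2).1),
          mem_centralizer_iff.1 (Subgroup.mem_inf.1 u.2).2 a₀ ha₀, mul_inv_cancel_right]
      · exact Subtype.ext (congrArg (fun z => z.1) hab)
    · refine Nat.card_le_card_of_injective
        (fun u => (⟨((u : ↥C) : G), (Subgroup.mem_inf.1 u.1.2).1, ?_⟩ : ↥Z₀)) fun a b hab => ?_
      · have hu : Subgroup.inclusion (inf_le_left : C ≤ W) u.1 ∈ toV.ker := u.2
        rw [hker] at hu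
        exact (Subgroup.mem_inf.1 hu).2
      · exact Subtype.ext (Subtype.ext (congrArg (fun z : ↥Z₀ => (z : G)) hab))
  have hoff := offender_max hA hWel (inf_le_left : A₁ ≤ A)
  have hWA₁ : W ⊓ centralizer (A₁ : Set G) = W :=
    inf_eq_left.2 fun u hu => mem_centralizer_iff.2 fun a ha =>
      (mem_centralizer_iff.1 (Subgroup.mem_inf.1 ha).2 u hu).symm
  rw [hWA₁, hWcard, ← hC] at hoff
  have hpos1 : 0 < Nat.card ↥A₁ := Nat.card_pos
  have hpos2 : 0 < Nat.card ↥Z₀ := Nat.card_pos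
  nlinarith [Nat.mul_le_mul hcardA hCcard]

/-- A linear block admits only inner automorphisms from another block. -/
theorem inner_of_linear (hG : centralizer (pCore p G : Set G) ≤ pCore p G)
    (hE : IsBaumannBlock p (S : Subgroup G) E) {n : ℕ} (hn : Fintype.card K = p ^ n)
    (h4 : 4 ≤ Fintype.card K) (iso : Nonempty (↥E ⧸ pCore p ↥E ≃* ↥(commutator (Matrix.SpecialLinearGroup (Fin 2) K))))
    (hsec : ActsAsSL2OnSection K (commutator (Matrix.SpecialLinearGroup (Fin 2) K)) E (bW p E) (bZ p E))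
    (hF : IsBaumannBlock p (S : Subgroup G) F) (hFE : F ≤ normalizer (E : Set G))
    (hne : ⁅bWE p E, F⁆ ≠ ⊥) :
    F ≤ E ⊔ (normalizer (E : Set G) ⊓ cW p E) := by
  have hQW : ∀ e ∈ pCoreOf p E, ∀ u ∈ bW p E, ⁅u, e⁆ ∈ bZ p E := fun e he u hu => by
    rw [commutatorElement_eq_one_iff_mul_comm.2 (core_comm he hu).symm]; exact one_mem _
  obtain ⟨R⟩ := nonempty_rep hsec (free_of_action hsec iso hQW ((bW_le E).trans (le_normalizer_bZ E))) hQW
  refine le_trans ?_ (detPart_le (R := R) hE h4)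
  have hBE := Block.baumann_le_normalizer hE
  have hlinF : F ≤ linPart R h4 := by
    rw [← hF.2.1, commutator_le]
    exact fun f hf b hb => commutator_mem_linPart h4 (hFE hf) (hBE hb)
  have hder : ⁅F, F⁆ ≤ detPart R h4 :=
    commutator_le.2 fun x hx y hy => commutator_mem_detPart h4 (hlinF hx) (hlinF hy)
  have hQ : pCoreOf p F ≤ detPart R h4 :=
    hF.2.2.1.ge.trans ((commutator_mono (CfsgLib.LocalEven.pCoreOf_le p F) le_rfl).trans hder)
  -- determinants fixed by every field automorphism suffice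
  have hsym : (∀ f ∈ F, ∀ D : K, Semi R f D (RingHom.id K) → ∀ σ : K →+* K, σ D = D) → F ≤ detPart R h4 := by
    intro h
    rw [← hF.2.1, commutator_le]
    intro f hf b hb
    obtain ⟨hfN, D, hD⟩ := hlinF hf
    obtain ⟨D', σ', h', e1, e2⟩ := exists_semi_inv h4 hfN hD
    obtain rfl : σ' = RingHom.id K := RingHom.ext e2
    obtain ⟨Db, σb, -, hb'⟩ := exists_semi_of_normalizer (R := R) h4 (hBE hb)
    have hc := h'.conj h4 (hBE hb) (inv_mem hfN) hb'
    have hm : b * f⁻¹ * b⁻¹ ∈ normalizer (E : Set G) :=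
      mul_mem (mul_mem (hBE hb) (inv_mem hfN)) (inv_mem (hBE hb))
    refine ⟨(commutator_mem_linPart (R := R) h4 hfN (hBE hb)).1, ?_⟩
    have h2 := hD.mul (normalizer_le_bW E hm) hc
    simp only [RingHom.id_apply, RingHom.comp_id] at h2 e1
    rw [h f⁻¹ (inv_mem hf) D' h' σb, e1,
      show f * (b * f⁻¹ * b⁻¹) = ⁅f, b⁆ by rw [commutatorElement_def]; group] at h2
    exact h2
  rcases perf_or_solv hF with hperf | ⟨s, hs⟩
  · exact (Perf_le_commutator_sup hperf).trans (sup_le hder hQ)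
  refine hsym fun f hf D hD σ => ?_
  rcases hs.type with ⟨hp2, -⟩ | ⟨hp3, -⟩
  · rw [det_eq_one_of_small hG hE h4 hn hF hFE hs hp2 hQ hne hf hD, map_one]
  obtain ⟨a, ha, b, hb, hab⟩ := hs.noncomm hp3
  have hc : ⁅a, b⁆ ∈ detPart R h4 := hder (commutator_mem_commutator ha hb)
  have hcF : ⁅a, b⁆ ∈ F := by
    rw [commutatorElement_def]
    exact mul_mem (mul_mem (mul_mem ha hb) (inv_mem ha)) (inv_mem hb)
  have hss : s * s ∈ detPart R h4 := by
    rcases hs.quat hp3 _ hcF with h | h | h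
    · exact absurd h hab
    · have := mul_mem (inv_mem (hQ h)) hc
      rwa [_root_.mul_inv_rev, inv_inv, mul_assoc, inv_mul_cancel, mul_one] at this
    · have := mul_mem (inv_mem (hQ h)) (mul_mem hc hc)
      rwa [_root_.mul_inv_rev, inv_inv, mul_assoc, inv_mul_cancel, mul_one] at this
  have hfN := hFE hf
  have hDD : D * D = 1 := by
    have hff : f * f ∈ detPart R h4 := by
      rcases hs.quat hp3 f hf with h | h | h
      · exact mul_mem (hQ h) (hQ h)
      · have := mul_mem (hQ h) hss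
        rw [inv_mul_cancel_right] at this
        exact mul_mem this this
      · have := mul_mem (hQ h) hss
        rwa [inv_mul_cancel_right] at this
    have h2 := hD.mul (normalizer_le_bW E hfN) hD
    simp only [RingHom.id_apply, RingHom.comp_id] at h2
    exact (hff.2.unique one_ne_zero h2).1.symm
  rcases mul_self_eq_one_iff.1 hDD with h | h
  · rw [h, map_one]
  · rw [h, map_neg, map_one]

end CfsgLib.LocalEven.BlockBaumann
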