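import Mathlib
import Cfsg.Agent.Lib.LocalEven.BlockBaumann.Basics

/-!
Solvable blocks admit only inner automorphisms from other blocks.
-/

set_option autoImplicit false

namespace CfsgLib.LocalEven.BlockBaumann

open Subgroup Cfsg
open CfsgLib.LocalEven.SubBlock CfsgLib.LocalEven.BlockCentral
open scoped commutatorElement

/-- A bound for the automorphisms of a group of order `p²` and exponent `p`. -/
theorem card_mulAut_le {W : Type*} [Group W] [Finite W] {p : ℕ} [Fact p.Prime] (hexp : ∀ w : W, w ^ p = 1)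
    (hc : Nat.card W = p ^ 2) : Nat.card (MulAut W) ≤ (p ^ 2 - 1) * (p ^ 2 - p) := by
  classical
  haveI := Fintype.ofFinite W
  have hp := (Fact.out : p.Prime)
  have hz : ∀ x : W, x ≠ 1 → Nat.card ↥(zpowers x) = p := fun x hx => by
    rw [Nat.card_zpowers, orderOf_eq_prime (hexp x) hx]
  haveI : Nontrivial W := by
    rw [← Finite.one_lt_card_iff_nontrivial, hc]
    exact Nat.one_lt_pow two_ne_zero hp.one_lt
  obtain ⟨a, ha⟩ := exists_ne (1 : W)
  obtain ⟨b, hb⟩ : ∃ b : W, b ∉ zpowers a := by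
    by_contra h
    push Not at h
    have h1 : (zpowers a) = ⊤ := eq_top_iff.2 fun x _ => h x
    have h2 := hz a ha
    rw [h1, Subgroup.card_top, hc] at h2
    nlinarith [hp.two_le]
  have hgen : closure ({a, b} : Set W) = ⊤ := by
    obtain ⟨k, hk, hk'⟩ := (Nat.dvd_prime_pow hp).1 (hc ▸ card_subgroup_dvd_card (closure ({a, b} : Set W)))
    refine eq_top_of_card_eq _ ?_
    rw [hc, hk']
    have hle : zpowers a ≤ closure ({a, b} : Set W) := zpowers_le.2 (subset_closure (by simp))
    have hlt : Nat.card ↥(zpowers a) < Nat.card ↥(closure ({a, b} : Set W)) := by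
      by_contra h
      exact hb ((eq_of_le_of_card_ge hle (not_lt.1 h)).ge (subset_closure (by simp)))
    rw [hz a ha, hk'] at hlt
    congr 1
    by_contra hne
    have : p ^ k ≤ p ^ 1 := Nat.pow_le_pow_right hp.pos (by omega)
    rw [pow_one] at this
    omega
  let P := Σ x : {x : W // x ≠ 1}, {y : W // y ∉ zpowers x.1}
  let f : MulAut W → P := fun φ => ⟨⟨φ a, by simpa using ha⟩, ⟨φ b, fun h => hb (by
    obtain ⟨k, hk⟩ := mem_zpowers_iff.1 h
    exact mem_zpowers_iff.2 ⟨k, φ.injective (by rw [map_zpow]; exact hk)⟩)⟩⟩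
  have hf : Function.Injective f := by
    intro φ ψ h
    have h1 : φ a = ψ a := congrArg (fun z : P => z.1.1) h
    have h2 : φ b = ψ b := congrArg (fun z : P => z.2.1) h
    have h3 : (φ : MulAut W).toMonoidHom = ψ.toMonoidHom := by
      refine MonoidHom.eq_of_eqOn_top fun x _ => ?_
      have : closure ({a, b} : Set W) ≤ φ.toMonoidHom.eqLocus ψ.toMonoidHom := by
        rw [closure_le]
        rintro y (rfl | rfl)
        exacts [h1, h2]
      exact this (hgen ▸ mem_top x)
    exact MulEquiv.ext fun x => DFunLike.congr_fun h3 x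
  refine (Nat.card_le_card_of_injective f hf).trans (le_of_eq ?_)
  have hsig : ∀ x : {x : W // x ≠ 1}, Fintype.card {y : W // y ∉ zpowers x.1} = p ^ 2 - p := fun x => by
    rw [Fintype.card_subtype_compl, ← Nat.card_eq_fintype_card, ← Nat.card_eq_fintype_card, hc]
    exact congrArg _ (hz x.1 x.2)
  rw [Nat.card_eq_fintype_card, Fintype.card_sigma, Finset.sum_congr rfl fun x _ => hsig x, Finset.sum_const,
    Finset.card_univ, smul_eq_mul, Fintype.card_subtype_compl, ← Nat.card_eq_fintype_card, hc,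
    Fintype.card_subtype_eq]

variable {G : Type*} [Group G] [Finite G] {p : ℕ} [Fact p.Prime] {S : Sylow p G} {E F : Subgroup G}

theorem inner_of_solv (hE : IsBaumannBlock p (S : Subgroup G) E) {s : G} (hs : Solv p E s)
    (hF : IsBaumannBlock p (S : Subgroup G) F) (hFE : F ≤ normalizer (E : Set G)) :
    F ≤ E ⊔ (normalizer (E : Set G) ⊓ cW p E) := by
  classical
  have hp := (Fact.out : p.Prime)
  set N := normalizer (E : Set G) with hN
  set W := bWE p E with hW
  set ψ : ↥N →* MulAut ↥W :=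
    (normalizerMonoidHom W).comp (Subgroup.inclusion (normalizer_le_bWE E)) with hψ
  have hker : ψ.ker = (N ⊓ cW p E).subgroupOf N := by
    ext x
    rw [hψ, MonoidHom.mem_ker, MonoidHom.comp_apply, ← MonoidHom.mem_ker, normalizerMonoidHom_ker, mem_subgroupOf,
      mem_subgroupOf, Subgroup.mem_inf]
    exact ⟨fun h => ⟨x.2, h⟩, fun h => h.2⟩
  set E' := E.subgroupOf N with hE'
  set C' := (N ⊓ cW p E).subgroupOf N with hC'
  haveI : E'.Normal := normal_subgroupOf_of_le_normalizer le_rfl
  haveI : C'.Normal := hker ▸ inferInstance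
  have hEN : E ≤ N := le_normalizer
  have hrel : C'.relIndex E' = Nat.card (↥E ⧸ pCore p ↥E) := by
    rw [hC', hE', relIndex_subgroupOf hEN, ← inf_relIndex_right]
    have h1 : N ⊓ cW p E ⊓ E = pCoreOf p E := by
      refine le_antisymm (fun x hx => cW_inf_le hE hx.2 (Subgroup.mem_inf.1 hx.1).2) fun x hx => ?_
      refine Subgroup.mem_inf.2 ⟨Subgroup.mem_inf.2 ⟨hEN (CfsgLib.LocalEven.pCoreOf_le p E hx), ?_⟩,
        CfsgLib.LocalEven.pCoreOf_le p E hx⟩
      exact mem_centralizer_iff.2 fun w hw => (core_comm hx (bWE_le E hw)).symm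
    rw [h1, relIndex, CfsgLib.LocalEven.subgroupOf_pCoreOf, index]
  set M' := E' ⊔ C' with hM'
  have hbound : M'.index * Nat.card (↥E ⧸ pCore p ↥E) ≤ (p ^ 2 - 1) * (p ^ 2 - p) := by
    rw [← hrel, ← relIndex_sup_right (H := E') (K := C'), mul_comm, ← hM', relIndex_mul_index le_sup_right,
      show C' = ψ.ker from hker.symm, index_ker]
    refine (card_le_card_group ψ.range).trans (card_mulAut_le (fun w => Subtype.ext ?_) (hs.card_bWE hE))
    exact (CfsgLib.LocalEven.Oz.elemAb (p := p) (pCoreOf p E)).2 _ (bWE_le E w.2)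
  have hM : (E ⊔ (N ⊓ cW p E)).subgroupOf N = M' := by
    rw [hM', hE', hC', subgroupOf_sup hEN inf_le_left]
  suffices hF' : F.subgroupOf N ≤ M' by
    intro f hf
    have := hF' (show (⟨f, hFE hf⟩ : ↥N) ∈ F.subgroupOf N from hf)
    rw [← hM] at this
    exact this
  set π := QuotientGroup.mk' M' with hπ
  have hgen : ∀ K : Subgroup (↥N ⧸ M'), (∀ f : ↥N, (f : G) ∈ F → (orderOf f).Coprime p → π f ∈ K) →
      (F.subgroupOf N).map π ≤ K := by
    intro K hK
    rw [map_le_iff_le_comap]
    intro f hf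
    have h1 : (f : G) ∈ closure {x | x ∈ F ∧ (orderOf x).Coprime p} := le_closure_coprime hF.1 hf
    have hle : closure {x | x ∈ F ∧ (orderOf x).Coprime p} ≤ (K.comap π).map N.subtype := by
      rw [closure_le]
      rintro x ⟨hx, hc⟩
      exact ⟨⟨x, hFE hx⟩, hK _ hx (by rwa [Subgroup.orderOf_mk]), rfl⟩
    obtain ⟨y, hy, hye⟩ := hle h1
    rwa [← Subtype.ext (show (y : G) = f from hye)]
  have hBN : baumannSubgroupOf p (S : Subgroup G) ≤ N := Block.baumann_le_normalizer hE
  set Bq := ((baumannSubgroupOf p (S : Subgroup G)).subgroupOf N).map π with hBq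
  have hBp : IsPGroup p ↥Bq := ((S.2.to_le (Baumann.baumann_le _)).comap_subtype (K := N)).map π
  have hcomm : ⁅(F.subgroupOf N).map π, Bq⁆ = (F.subgroupOf N).map π := by
    rw [hBq, ← Subgroup.map_commutator]
    congr 1
    apply (map_injective N.subtype_injective)
    rw [map_commutator, map_subgroupOf_eq_of_le hFE, map_subgroupOf_eq_of_le hBN, hF.2.1]
  have hsmall : ∀ K : Subgroup (↥N ⧸ M'), IsPGroup p ↥K → (F.subgroupOf N).map π ≤ K →
      (F.subgroupOf N).map π = ⊥ := fun K hKp hle => by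
    refine le_bot_iff.1 (hgen ⊥ fun f hf hc => ?_)
    refine mem_bot.2 (eq_one_of_pElem_coprime hKp (hle ⟨f, hf, rfl⟩) (hc.coprime_dvd_left (orderOf_map_dvd π f)))
  have hkey : (F.subgroupOf N).map π = ⊥ := by
    rcases hs.type with ⟨hp2, h3⟩ | ⟨hp3, h8⟩
    · rw [h3, hp2] at hbound
      have hle : M'.index ≤ 2 := by norm_num at hbound; omega
      refine hsmall ⊤ (IsPGroup.iff_orderOf.2 fun x => ?_) le_top
      have h1 : orderOf ((x : ↥N ⧸ M')) ∣ M'.index := orderOf_dvd_natCard _
      have h2 : orderOf (x : ↥N ⧸ M') ≤ 2 := (Nat.le_of_dvd (Nat.pos_of_ne_zero index_ne_zero_of_finite) h1).trans hle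
      have h4 := orderOf_pos (x : ↥N ⧸ M')
      rw [← Subgroup.orderOf_coe]
      rcases (show orderOf (x : ↥N ⧸ M') = 1 ∨ orderOf (x : ↥N ⧸ M') = 2 by omega) with h | h
      · exact ⟨0, by rw [h, pow_zero]⟩
      · exact ⟨1, by rw [h, pow_one, hp2]⟩
    · rw [h8, hp3] at hbound
      have hle : Nat.card (↥N ⧸ M') ≤ 6 := by
        show M'.index ≤ 6
        norm_num at hbound; omega
      by_cases hB : Bq = ⊥
      · rw [← hcomm, hB, commutator_bot_right]
      haveI : Bq.Normal := by
        obtain ⟨k, hk⟩ := hBp.exists_card_eq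
        have hk1 : k ≠ 0 := fun h => hB (card_eq_one.1 (by rw [hk, h, pow_zero]))
        have h3 : 3 ≤ Nat.card ↥Bq := by
          rw [hk, hp3]
          exact le_self_pow₀ (by norm_num : 1 ≤ 3) hk1
        have hmul := Bq.card_mul_index
        have hi : Bq.index ≤ 2 := by nlinarith
        have hi0 : 0 < Bq.index := Nat.pos_of_ne_zero index_ne_zero_of_finite
        rcases (show Bq.index = 1 ∨ Bq.index = 2 by omega) with h | h
        · rw [index_eq_one] at h; rw [h]; infer_instance
        · exact normal_of_index_eq_two h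
      exact hsmall Bq hBp (hcomm ▸ commutator_le_right _ _)
  rwa [Subgroup.map_eq_bot_iff, QuotientGroup.ker_mk'] at hkey

end CfsgLib.LocalEven.BlockBaumann
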