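import Mathlib
import Cfsg.Agent.Lib.LocalEven.BlockBaumann.Linear
import Cfsg.Agent.Lib.LocalEven.BlockBaumann.Alt
import Cfsg.Agent.Lib.LocalEven.BlockBaumann.Small

/-!
Subnormal blocks and the Baumann subgroup.
-/

set_option autoImplicit false

namespace CfsgLib.LocalEven.BlockBaumann

open Subgroup Cfsg
open CfsgLib.LocalEven.SubBlock CfsgLib.LocalEven.BlockCentral
open scoped commutatorElement

variable {G : Type*} [Group G] [Finite G] {p : ℕ} [Fact p.Prime] {S : Sylow p G} {E F : Subgroup G}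

theorem inner_of_block (hG : centralizer (pCore p G : Set G) ≤ pCore p G)
    (hE : IsBaumannBlock p (S : Subgroup G) E) (hF : IsBaumannBlock p (S : Subgroup G) F)
    (hFE : F ≤ normalizer (E : Set G)) (hne : ⁅bWE p E, F⁆ ≠ ⊥) :
    F ≤ E ⊔ (normalizer (E : Set G) ⊓ cW p E) := by
  obtain ⟨-, -, -, -, hcases⟩ := id hE
  have hsolv : ¬ p ∣ Nat.card (↥E ⧸ pCore p ↥E) → F ≤ E ⊔ (normalizer (E : Set G) ⊓ cW p E) := by
    intro h
    rcases perf_or_solv hE with hP | ⟨s, hs⟩
    · exact absurd hP.2 h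
    · exact inner_of_solv hE hs hF hFE
  rcases hcases with ⟨K, _, _, n, hn, iso, hsec, -⟩ | ⟨hp2, m, ⟨f⟩, hsec, -⟩
  · by_cases h4 : 4 ≤ Fintype.card K
    · exact inner_of_linear hG hE hn h4 iso hsec hF hFE hne
    refine hsolv fun hdvd => ?_
    obtain ⟨f⟩ := iso
    haveI := CfsgLib.Cores.pCore_characteristic (G := ↥E) p
    rw [Nat.card_congr f.toEquiv] at hdvd
    have hn1 : n ≠ 0 := by
      rintro rfl
      have := Fintype.one_lt_card (α := K)
      rw [hn, pow_zero] at this
      omega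
    have hpK : p ∣ Fintype.card K := hn ▸ dvd_pow_self p hn1
    rcases (show Fintype.card K = 2 ∨ Fintype.card K = 3 by
      have := Fintype.one_lt_card (α := K); omega) with h | h
    · rw [h] at hpK
      rw [SL3.card_commutator_two h, (Nat.prime_dvd_prime_iff_eq Fact.out Nat.prime_two).1 hpK] at hdvd
      omega
    · rw [h] at hpK
      rw [SL3.card_commutator h, (Nat.prime_dvd_prime_iff_eq Fact.out Nat.prime_three).1 hpK] at hdvd
      omega
  · by_cases hm : 2 ≤ m
    · exact inner_of_alt hE hp2 hm hsec hF hFE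
    refine hsolv fun hdvd => ?_
    haveI := CfsgLib.Cores.pCore_characteristic (G := ↥E) p
    rw [Nat.card_congr f.toEquiv, hp2] at hdvd
    rcases (show m = 0 ∨ m = 1 by omega) with rfl | rfl
    · haveI : Subsingleton ↥(alternatingGroup (Fin (2 * 0 + 1))) :=
        ⟨fun a b => Subtype.ext (Equiv.ext fun i => Subsingleton.elim (α := Fin 1) _ _)⟩
      have h1 : Nat.card ↥(alternatingGroup (Fin (2 * 0 + 1))) = 1 := Nat.card_of_subsingleton 1
      rw [h1] at hdvd
      omega
    · haveI : Nontrivial (Fin (2 * 1 + 1)) := Fin.nontrivial_iff_two_le.2 (by omega)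
      have h1 : Nat.card ↥(alternatingGroup (Fin (2 * 1 + 1))) = 3 := by
        rw [nat_card_alternatingGroup, Nat.card_fin]; rfl
      rw [h1] at hdvd
      omega

theorem subnormal_block (hG : centralizer (pCore p G : Set G) ≤ pCore p G) {E : Subgroup G}
    (hE : ∃ T : Sylow p G, IsBaumannBlock p (T : Subgroup G) E) (hEs : E.IsSubnormal) :
    E ≤ baumannSubgroup p G ∧ baumannSubgroup p G ≤ normalizer (E : Set G) ∧
      (∀ T' : Sylow p G, IsBaumannBlock p (T' : Subgroup G) E) ∧
      ∀ F : Subgroup G, (∃ T' : Sylow p G, IsBaumannBlock p (T' : Subgroup G) F) → F ≤ E ∨ ⁅F, E⁆ = ⊥ := by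
  obtain ⟨T, hE⟩ := hE
  refine ⟨block_le_baumann hE, baumann_le hG hE hEs, isBlock_all hG hE hEs, ?_⟩
  rintro F ⟨T', hF⟩
  have hE' := isBlock_all hG hE hEs T'
  have hFE : F ≤ normalizer (E : Set G) := (block_le_baumann hF).trans (baumann_le hG hE hEs)
  by_cases h : ⁅bWE p E, F⁆ = ⊥
  · right
    rw [commutator_comm]
    exact commutator_eq_bot_of_centralizes hG hE' hEs hF hFE h
  · exact Or.inl (le_of_inner hG hE' hEs hF hFE h (inner_of_block hG hE' hF hFE h))

end CfsgLib.LocalEven.BlockBaumann
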